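import Groth.Agent.TameAbh.RootCriterion

/-!
# Abhyankar's lemma for an extension of discrete valuation rings of divisible index
-/

set_option autoImplicit false
set_option backward.isDefEq.respectTransparency false

universe u

open IsLocalRing
open Groth.Agent.TameAbh

namespace Groth.Agent.AbsAbh

theorem unram_of_divisible {A₀ K₀ L S K M : Type u} [CommRing A₀] [IsDomain A₀] [IsDiscreteValuationRing A₀]
    [Field K₀] [Algebra A₀ K₀] [IsFractionRing A₀ K₀] [Field L] [Algebra K₀ L] [Algebra A₀ L] [IsScalarTower A₀ K₀ L]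
    [FiniteDimensional K₀ L]
    [CommRing S] [IsDomain S] [IsDiscreteValuationRing S] [Algebra A₀ S] [IsLocalHom (algebraMap A₀ S)]
    [Field K] [Algebra S K] [IsFractionRing S K] [Field M] [Algebra K M] [FiniteDimensional K M]
    (hinj : Function.Injective (algebraMap A₀ S)) (φL : L →+* M)
    (hc : φL.comp (algebraMap A₀ L) = ((algebraMap K M).comp (algebraMap S K)).comp (algebraMap A₀ S))
    (hgen : Subfield.closure (Set.range φL ∪ Set.range (algebraMap K M)) = ⊤)
    (htame : EtRam.IsTamelyRamified A₀ (algebraMap A₀ L)) (e : ℕ) (he : (e : ResidueField A₀) ≠ 0)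
    (hdiv : ∀ (V : ValuationSubring L) (hV : EtRam.Dominates A₀ (algebraMap A₀ L) V),
        letI : Algebra A₀ V := (RingHom.codRestrict (algebraMap A₀ L) V hV.1).toAlgebra
        Ideal.ramificationIdx' (maximalIdeal A₀) (maximalIdeal V) ∣ e)
    (π : A₀) (hπ : Irreducible π) (ϖS : S) (hϖS : Irreducible ϖS) (v : Sˣ) (d : ℕ)
    (hπS : algebraMap A₀ S π = v * ϖS ^ (e * d)) :
    EtRam.IsUnramifiedExt S ((algebraMap K M).comp (algebraMap S K)) := by
  set g := (algebraMap K M).comp (algebraMap S K)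
  have hginj : Function.Injective g := (algebraMap K M).injective.comp (IsFractionRing.injective S K)
  have hg : ∀ a, φL (algebraMap A₀ L a) = g (algebraMap A₀ S a) := fun a => RingHom.congr_fun hc a
  intro W hW
  intro hlW
  letI : Algebra S W := (RingHom.codRestrict g W hW.1).toAlgebra
  haveI : IsLocalHom (algebraMap S W) := EtRamTower.isLocalHom_codRestrict _ _ hW
  haveI : IsDiscreteValuationRing W := isDVR_of_dominates (A := S) (K := K) W hW
  have hVdom : EtRam.Dominates A₀ (algebraMap A₀ L) (W.comap φL) := by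
    refine (EtRamTower.dominates_comap_iff φL _ W).2 ?_
    refine ⟨fun a => ?_, fun a ha => ?_⟩
    · show φL (algebraMap A₀ L a) ∈ W
      rw [hg]; exact hW.1 _
    · show W.valuation (φL (algebraMap A₀ L a)) < 1
      rw [hg]; exact hW.2 _ (map_nonunit (algebraMap A₀ S) a ha)
  letI : Algebra A₀ (W.comap φL) := (RingHom.codRestrict (algebraMap A₀ L) (W.comap φL) hVdom.1).toAlgebra
  haveI : IsLocalHom (algebraMap A₀ (W.comap φL)) := EtRamTower.isLocalHom_codRestrict _ _ hVdom
  haveI : IsDiscreteValuationRing (W.comap φL) := isDVR_of_dominates (A := A₀) (K := K₀) _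
    (by rwa [← IsScalarTower.algebraMap_eq])
  haveI : Algebra.IsSeparable (ResidueField A₀) (ResidueField (W.comap φL)) := (htame _ hVdom).1
  obtain ⟨ϖ, hϖ⟩ := IsDiscreteValuationRing.exists_irreducible (W.comap φL)
  obtain ⟨u, hu, hev, -⟩ := exists_pow_eq (A := A₀) (K := K₀) (W.comap φL)
    (fun a => IsScalarTower.algebraMap_apply A₀ K₀ L a) π hπ ϖ hϖ
  obtain ⟨d', hd'⟩ := hdiv _ hVdom
  have hd0 : d' * d ≠ 0 := by
    intro h0
    have hed : e * d = 0 := by rw [hd', mul_assoc, h0, mul_zero]
    rw [hed, pow_zero, mul_one] at hπS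
    exact hπ.not_isUnit (IsUnit.of_map (algebraMap A₀ S) π (hπS ▸ v.isUnit))
  have hcast : ((Ideal.ramificationIdx' (maximalIdeal A₀) (maximalIdeal (W.comap φL)) : ℕ) :
      ResidueField A₀) ≠ 0 := fun h0 => he (by rw [hd', Nat.cast_mul, h0, zero_mul])
  obtain ⟨hmax, hsep⟩ := sep_step (A := A₀) φL (algebraMap K M) hgen W
    (EtRam.inclOfComap W φL) (algebraMap S W) (fun b => rfl) (fun b => rfl)
    (RingHom.ext fun a => Subtype.ext (hg a))
    ϖ ((IsDiscreteValuationRing.irreducible_iff_uniformizer ϖ).1 hϖ) ϖS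
    ((IsDiscreteValuationRing.irreducible_iff_uniformizer ϖS).1 hϖS)
    (fun h0 => hϖS.ne_zero (hginj ((congrArg Subtype.val h0).trans (map_zero g).symm)))
    _ (d' * d) hcast hd0 π u v hu (by rw [hπS, hd', mul_assoc])
  refine ⟨?_, ?_⟩
  · show Ideal.map _ _ = _
    rw [(IsDiscreteValuationRing.irreducible_iff_uniformizer ϖS).1 hϖS, Ideal.map_span, Set.image_singleton, hmax]
  · convert hsep using 2
    exact Algebra.algebra_ext _ _ fun z => by obtain ⟨z, rfl⟩ := residue_surjective z; rfl

end Groth.Agent.AbsAbh
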