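import Groth.Agent.S2921
import Groth.Prelude.Def_SGA1
import Groth.Agent.RegLoc.Order
import Groth.Agent.SerreReg.Regular
import Mathlib.RingTheory.DualNumber

/-!
# Kummer algebras over a regular local ring
-/

set_option autoImplicit false
set_option backward.isDefEq.respectTransparency false

universe u

open IsLocalRing SGA1

namespace Groth.Agent.AbsAbh

/-- Linear independence in the cotangent space. -/
abbrev CotIndep {A : Type u} [CommRing A] [IsLocalRing A] {r : ℕ} (f : Fin r → A)
    (hm : ∀ i, f i ∈ maximalIdeal A) : Prop :=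
  LinearIndependent (ResidueField A) (fun i => (maximalIdeal A).toCotangent ⟨f i, hm i⟩)

section Param

variable {A : Type u} [CommRing A] [IsLocalRing A] {r : ℕ} {f : Fin r → A} {hm : ∀ i, f i ∈ maximalIdeal A}

theorem CotIndep.eq_zero (hf : CotIndep f hm) (b : Fin r → A) (hb : ∑ i, b i * f i ∈ maximalIdeal A ^ 2) (i : Fin r) :
    b i ∈ maximalIdeal A := by
  have h0 : ∑ j, residue A (b j) • (maximalIdeal A).toCotangent ⟨f j, hm j⟩ = 0 := by
    have e : ∀ j, residue A (b j) • (maximalIdeal A).toCotangent ⟨f j, hm j⟩ =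
        (maximalIdeal A).toCotangent (b j • ⟨f j, hm j⟩) := fun j => by
      rw [map_smul]; exact algebraMap_smul (R := A) (ResidueField A) (b j) _
    simp only [e, ← map_sum]
    rw [Ideal.toCotangent_eq_zero]
    rw [AddSubmonoidClass.coe_finsetSum]
    exact hb
  exact (residue_eq_zero_iff _).1 (Fintype.linearIndependent_iff.1 hf _ h0 i)

theorem CotIndep.notMem_sq (hf : CotIndep f hm) (i : Fin r) : f i ∉ maximalIdeal A ^ 2 := fun h => by
  classical
  have := hf.eq_zero (Pi.single i 1) (by simpa [Pi.single_apply] using h) i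
  rw [Pi.single_eq_same] at this
  exact (maximalIdeal.isMaximal A).ne_top ((Ideal.eq_top_iff_one _).2 this)

theorem CotIndep.notMem_others (hf : CotIndep f hm) (i : Fin r) :
    f i ∉ maximalIdeal A ^ 2 ⊔ Ideal.span (f '' {j | j ≠ i}) := fun h => by
  classical
  obtain ⟨z, hz, w, hw, hzw⟩ := Submodule.mem_sup.1 h
  have hw' : w ∈ Submodule.span A (f '' (↑(Finset.univ.erase i) : Set (Fin r))) := by
    convert hw using 2
    congr 1
    ext j
    simp
  obtain ⟨c, hc⟩ := (Submodule.mem_span_image_finset_iff_exists_fun A).1 hw'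
  let b : Fin r → A := fun j => if hj : j = i then 1 else -c ⟨j, by simp [hj]⟩
  have hb : ∑ j, b j * f j = z := by
    rw [← Finset.add_sum_erase _ _ (Finset.mem_univ i), eq_sub_of_add_eq hzw, ← hc, ← Finset.sum_coe_sort]
    simp only [b, dif_pos, one_mul, smul_eq_mul]
    rw [sub_eq_add_neg, ← Finset.sum_neg_distrib]
    congr 1
    refine Finset.sum_congr rfl fun j _ => ?_
    rw [dif_neg (Finset.mem_erase.1 j.2).1, neg_mul]
  have := hf.eq_zero b (hb ▸ hz) i
  rw [show b i = 1 from dif_pos rfl] at this
  exact (maximalIdeal.isMaximal A).ne_top ((Ideal.eq_top_iff_one _).2 this)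

theorem CotIndep.prime [IsRegularLocalRing A] (hf : CotIndep f hm) (i : Fin r) :
    f i ≠ 0 ∧ (Ideal.span {f i}).IsPrime := by
  refine ⟨fun h => hf.notMem_sq i (h ▸ zero_mem _), ?_⟩
  haveI := (SerreReg.isRegularLocalRing_quot (hm i) (hf.notMem_sq i)).1
  haveI := RegLoc.isDomain (A ⧸ Ideal.span {f i})
  exact (Ideal.Quotient.isDomain_iff_prime _).1 inferInstance

end Param

variable {A : Type u} [CommRing A] {r : ℕ} (f : Fin r → A) (n : Fin r → ℕ)

/-- The root `T_i` in the Kummer algebra. -/
noncomputable def kt (i : Fin r) : kummerAlg A f n := Ideal.Quotient.mk _ (MvPolynomial.X i)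

theorem kt_pow (i : Fin r) : kt f n i ^ n i = algebraMap A (kummerAlg A f n) (f i) :=
  (map_pow _ _ _).symm.trans (Ideal.Quotient.eq.mpr (Ideal.subset_span ⟨i, rfl⟩))

theorem exists_hom (C : Type u) [CommRing C] [Algebra A C] (c : Fin r → C)
    (hc : ∀ i, c i ^ n i = algebraMap A C (f i)) : ∃ g : kummerAlg A f n →ₐ[A] C, ∀ i, g (kt f n i) = c i := by
  refine ⟨Ideal.Quotient.liftₐ _ (MvPolynomial.aeval c) (fun a ha => ?_), fun i => MvPolynomial.aeval_X c i⟩
  refine (Ideal.span_le (I := RingHom.ker (MvPolynomial.aeval c : MvPolynomial (Fin r) A →ₐ[A] C))).2 ?_ ha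
  rintro _ ⟨i, rfl⟩
  simp [hc]

theorem adjoin_kt : Algebra.adjoin A (Set.range (kt f n)) = ⊤ := by
  rw [show Set.range (kt f n) = (Ideal.Quotient.mkₐ A _) '' (Set.range MvPolynomial.X) from Set.range_comp _ _,
    ← AlgHom.map_adjoin, MvPolynomial.adjoin_range_X, Algebra.map_top, AlgHom.range_eq_top]
  exact Ideal.Quotient.mkₐ_surjective _ _

theorem isIntegral_kummer (hn : ∀ i, 1 ≤ n i) : Algebra.IsIntegral A (kummerAlg A f n) := by
  have hle : Algebra.adjoin A (Set.range (kt f n)) ≤ integralClosure A (kummerAlg A f n) := by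
    refine Algebra.adjoin_le ?_
    rintro _ ⟨i, rfl⟩
    exact IsIntegral.of_pow (hn i) (by rw [kt_pow]; exact isIntegral_algebraMap)
  exact ⟨fun x => hle (by rw [adjoin_kt]; trivial)⟩

theorem finite_kummer (hn : ∀ i, 1 ≤ n i) : Module.Finite A (kummerAlg A f n) := by
  haveI := isIntegral_kummer f n hn
  exact Algebra.IsIntegral.finite

theorem injective_kummer [IsDomain A] (hn : ∀ i, 1 ≤ n i) : Function.Injective (algebraMap A (kummerAlg A f n)) := by
  choose z hz using fun i => IsAlgClosed.exists_pow_nat_eq (algebraMap A (AlgebraicClosure (FractionRing A)) (f i)) (hn i)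
  obtain ⟨g, -⟩ := exists_hom f n _ z hz
  refine (injective_iff_map_eq_zero _).2 fun a ha => ?_
  have h := g.commutes a
  rw [ha, map_zero, IsScalarTower.algebraMap_apply A (FractionRing A) (AlgebraicClosure (FractionRing A))] at h
  exact IsFractionRing.injective A (FractionRing A)
    (((map_eq_zero _).1 h.symm).trans (map_zero _).symm)


/-- The universal roots of parameters are independent in the cotangent space. -/
theorem cotIndep_of_hex [IsLocalRing A] (S : Type u) [CommRing S] [IsLocalRing S] [Algebra A S] [Algebra.IsIntegral A S]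
    (t : Fin r → S) (hm : ∀ i, f i ∈ maximalIdeal A) (hf : CotIndep f hm) (hn : ∀ i, 1 ≤ n i)
    (ht : ∀ i, t i ∈ maximalIdeal S)
    (hex : ∀ (C : Type u) [CommRing C] [Algebra A C] (c : Fin r → C),
      (∀ i, c i ^ n i = algebraMap A C (f i)) → ∃ g : S →ₐ[A] C, ∀ i, g (t i) = c i) :
    CotIndep t ht := by
  classical
  refine Fintype.linearIndependent_iff.2 fun c hc i => ?_
  choose b hb using fun j => residue_surjective (c j)
  have hsum : ∑ j, b j * t j ∈ maximalIdeal (S) ^ 2 := by
    have e : ∀ j, c j • (maximalIdeal _).toCotangent ⟨t j, ht j⟩ =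
        (maximalIdeal _).toCotangent (b j • ⟨t j, ht j⟩) := fun j => by
      rw [map_smul, ← hb j]; exact algebraMap_smul (R := S) (ResidueField _) (b j) _
    simp only [e, ← map_sum] at hc
    rw [Ideal.toCotangent_eq_zero, AddSubmonoidClass.coe_finsetSum] at hc
    exact hc
  by_contra hci
  have hu : IsUnit (b i) := notMem_maximalIdeal.1 fun h => hci (by rw [← hb i, (residue_eq_zero_iff _).2 h])
  suffices key : ∀ (C : Type u) [CommRing C] [IsLocalRing C] [Algebra A C] (ci : C), IsLocalHom (algebraMap A C) →
      maximalIdeal C * maximalIdeal C = ⊥ → ci ≠ 0 → (∀ j, j ≠ i → algebraMap A C (f j) = 0) →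
      ci ^ n i = algebraMap A C (f i) → False by
    by_cases hni : n i = 1
    · set J : Ideal A := maximalIdeal A ^ 2 ⊔ Ideal.span (f '' {j | j ≠ i}) with hJ
      have hJm : J ≤ maximalIdeal A := sup_le (Ideal.pow_le_self two_ne_zero) (Ideal.span_le.2 (by
        rintro _ ⟨j, -, rfl⟩; exact hm j))
      haveI : Nontrivial (A ⧸ J) := Ideal.Quotient.nontrivial_iff.2 fun h => (maximalIdeal.isMaximal A).ne_top (top_le_iff.1 (h ▸ hJm))
      haveI : IsLocalRing (A ⧸ J) := IsLocalRing.of_surjective' _ Ideal.Quotient.mk_surjective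
      have hmap : (maximalIdeal A).map (Ideal.Quotient.mk J) = maximalIdeal (A ⧸ J) :=
        IsLocalRing.map_maximalIdeal_of_surjective _ Ideal.Quotient.mk_surjective
      refine key (A ⧸ J) (Ideal.Quotient.mk J (f i))
        (IsLocalHom.of_surjective _ Ideal.Quotient.mk_surjective) ?_
        (fun h => hf.notMem_others i (Ideal.Quotient.eq_zero_iff_mem.1 h)) (fun j hj => ?_) (by rw [hni, pow_one]; rfl)
      · rw [← hmap, ← Ideal.map_mul, ← pow_two, eq_bot_iff, Ideal.map_le_iff_le_comap]
        intro a ha
        rw [Ideal.mem_comap, Ideal.mem_bot, Ideal.Quotient.eq_zero_iff_mem]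
        exact Ideal.mem_sup_left ha
      · exact Ideal.Quotient.eq_zero_iff_mem.2 (Ideal.mem_sup_right (Ideal.subset_span ⟨j, hj, rfl⟩))
    · have hf0 : ∀ j, algebraMap A (DualNumber (ResidueField A)) (f j) = 0 := fun j => by
        rw [IsScalarTower.algebraMap_apply A (ResidueField A) (DualNumber (ResidueField A))]
        rw [show algebraMap A (ResidueField A) (f j) = 0 from (residue_eq_zero_iff _).2 (hm j), map_zero]
      refine key (DualNumber (ResidueField A)) DualNumber.eps ⟨fun a ha => ?_⟩ ?_ ?_ (fun j _ => hf0 j) ?_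
      · rw [IsScalarTower.algebraMap_apply A (ResidueField A) (DualNumber (ResidueField A))] at ha
        by_contra hna
        rw [show algebraMap A (ResidueField A) a = 0 from (residue_eq_zero_iff _).2 hna, map_zero] at ha
        exact not_isUnit_zero ha
      · rw [DualNumber.maximalIdeal_eq_span_singleton_eps, Ideal.span_singleton_mul_span_singleton,
          DualNumber.eps_mul_eps, Ideal.span_singleton_eq_bot]
      · exact fun h => one_ne_zero (α := ResidueField A) (by simpa using congrArg TrivSqZeroExt.snd h)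
      · rw [hf0]
        refine eq_zero_of_zero_dvd ?_
        rw [← DualNumber.eps_mul_eps, ← pow_two]
        exact pow_dvd_pow _ (by have := hn i; omega)
  intro C _ _ _ ci _ hsq hci0 hoth hi
  obtain ⟨g, hg⟩ := hex C (Function.update 0 i ci) fun j => by
    rcases eq_or_ne j i with rfl | hj
    · rw [Function.update_self]; exact hi
    · rw [Function.update_of_ne hj, Pi.zero_apply, zero_pow (by have := hn j; omega), hoth j hj]
  have hgm : maximalIdeal (S) ≤ (maximalIdeal C).comap g.toRingHom := by
    haveI : ((maximalIdeal C).comap g.toRingHom).IsPrime := Ideal.IsPrime.comap _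
    refine le_of_eq (Eq.symm ?_)
    refine eq_maximalIdeal (Ideal.isMaximal_of_isIntegral_of_isMaximal_comap (R := A) _ ?_)
    rw [Ideal.comap_comap, show g.toRingHom.comp (algebraMap A S) = algebraMap A C from g.comp_algebraMap,
      IsLocalRing.maximalIdeal_comap]
    infer_instance
  have h2 : g (∑ j, b j * t j) ∈ (⊥ : Ideal C) := by
    rw [← hsq, ← pow_two]
    exact Ideal.pow_right_mono (Ideal.map_le_iff_le_comap.2 hgm) 2 (by
      rw [← Ideal.map_pow]; exact Ideal.mem_map_of_mem _ hsum)
  rw [Ideal.mem_bot, map_sum, Finset.sum_eq_single i (fun j _ hj => by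
    rw [map_mul, hg, Function.update_of_ne hj, Pi.zero_apply, mul_zero]) (fun h => absurd (Finset.mem_univ i) h),
    map_mul, hg, Function.update_self] at h2
  exact hci0 ((hu.map g).mul_right_eq_zero.1 h2)


section Regular

variable [IsRegularLocalRing A] (hm : ∀ i, f i ∈ maximalIdeal A)

/-- A Kummer algebra of parameters is regular local and the roots are again parameters. -/
theorem kummer_params (hf : CotIndep f hm) (hn : ∀ i, 1 ≤ n i) :
    ∃ (_ : IsRegularLocalRing (kummerAlg A f n)) (ht : ∀ i, kt f n i ∈ maximalIdeal (kummerAlg A f n)),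
      CotIndep (kt f n) ht ∧ IsLocalHom (algebraMap A (kummerAlg A f n)) := by
  classical
  haveI hreg : IsRegularLocalRing (kummerAlg A f n) := (Groth.Agent.S2921.result A r f hm hf n hn).1
  haveI := isIntegral_kummer f n hn
  have hmc : (maximalIdeal (kummerAlg A f n)).comap (algebraMap A _) = maximalIdeal A :=
    eq_maximalIdeal (Ideal.isMaximal_comap_of_isIntegral_of_isMaximal (R := A) _)
  have hloc : IsLocalHom (algebraMap A (kummerAlg A f n)) :=
    ((IsLocalRing.local_hom_TFAE _).out 4 0).1 hmc
  have ht : ∀ i, kt f n i ∈ maximalIdeal (kummerAlg A f n) := fun i => by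
    refine (maximalIdeal.isMaximal _).isPrime.mem_of_pow_mem (n i) ?_
    rw [kt_pow, ← Ideal.mem_comap, hmc]
    exact hm i
  refine ⟨hreg, ht, ?_, hloc⟩
  exact cotIndep_of_hex f n (kummerAlg A f n) (kt f n) hm hf hn ht (exists_hom f n)

end Regular

/-- A flat local homomorphism with `m S = m_S` between regular local rings preserves parameters. -/
theorem cotIndep_map {R S : Type u} [CommRing R] [IsRegularLocalRing R] [CommRing S] [IsRegularLocalRing S]
    [Algebra R S] (hdim : ringKrullDim R ≤ ringKrullDim S)
    (hmap : (maximalIdeal R).map (algebraMap R S) = maximalIdeal S) (g : Fin r → R) (hg : ∀ i, g i ∈ maximalIdeal R)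
    (h : CotIndep g hg) (hg' : ∀ i, algebraMap R S (g i) ∈ maximalIdeal S) :
    CotIndep (fun i => algebraMap R S (g i)) hg' := by
  classical
  obtain ⟨W, hW⟩ := Submodule.exists_isCompl (Submodule.span (ResidueField R) (Set.range fun i => (maximalIdeal R).toCotangent ⟨g i, hg i⟩))
  let bW := Module.finBasis (ResidueField R) W
  choose s hs using fun j => (maximalIdeal R).toCotangent_surjective (bW j : CotangentSpace R)
  let gen : Fin r ⊕ Fin (Module.finrank (ResidueField R) W) → maximalIdeal R := Sum.elim (fun i => ⟨g i, hg i⟩) s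
  have hgen : Submodule.span R (Set.range gen) = ⊤ := by
    rw [← CotangentSpace.span_image_eq_top_iff, ← Set.range_comp, ← top_le_iff]
    have e1 : W = Submodule.span (ResidueField R) (Set.range fun j => (bW j : CotangentSpace R)) := by
      conv_lhs => rw [← W.range_subtype, ← Submodule.map_top, ← bW.span_eq, Submodule.map_span, ← Set.range_comp]
      rfl
    rw [← hW.sup_eq_top]
    refine sup_le (Submodule.span_mono ?_) (e1.le.trans (Submodule.span_mono ?_))
    · rintro _ ⟨i, rfl⟩
      exact ⟨Sum.inl i, rfl⟩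
    · rintro _ ⟨j, rfl⟩
      exact ⟨Sum.inr j, hs j⟩
  have hmem : ∀ x : maximalIdeal R, algebraMap R S (x : R) ∈ maximalIdeal S := fun x =>
    hmap.le (Ideal.mem_map_of_mem _ x.2)
  let v : Fin r ⊕ Fin (Module.finrank (ResidueField R) W) → CotangentSpace S :=
    fun k => (maximalIdeal S).toCotangent ⟨_, hmem (gen k)⟩
  have hv : ⊤ ≤ Submodule.span (ResidueField S) (Set.range v) := by
    rw [top_le_iff, show Set.range v = (maximalIdeal S).toCotangent '' Set.range (fun k => (⟨_, hmem (gen k)⟩ : maximalIdeal S))
      from Set.range_comp _ _, CotangentSpace.span_image_eq_top_iff, eq_top_iff]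
    rintro ⟨y, hy⟩ -
    have hy' : y ∈ Submodule.map (maximalIdeal S).subtype (Submodule.span S (Set.range fun k => (⟨_, hmem (gen k)⟩ : maximalIdeal S))) := by
      rw [Submodule.map_span, ← Set.range_comp]
      have hsp : maximalIdeal R ≤ Ideal.span (Set.range fun k => (gen k : R)) := fun a ha => by
        have h1 : (⟨a, ha⟩ : maximalIdeal R) ∈ Submodule.span R (Set.range gen) := by rw [hgen]; trivial
        have h2 := Submodule.mem_map_of_mem (f := (maximalIdeal R).subtype) h1
        rw [Submodule.map_span, ← Set.range_comp] at h2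
        exact h2
      have h3 : y ∈ (Ideal.span (Set.range fun k => (gen k : R))).map (algebraMap R S) :=
        Ideal.map_mono hsp (hmap.ge hy)
      rw [Ideal.map_span, ← Set.range_comp] at h3
      exact h3
    obtain ⟨z, hz, hzy⟩ := Submodule.mem_map.1 hy'
    rwa [show (⟨y, hy⟩ : maximalIdeal S) = z from Subtype.ext hzy.symm]
  have hcard : Fintype.card (Fin r ⊕ Fin (Module.finrank (ResidueField R) W)) ≤
      Module.finrank (ResidueField S) (CotangentSpace S) := by
    have h1 := (IsRegularLocalRing.iff_finrank_cotangentSpace R).1 inferInstance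
    have h2 := (IsRegularLocalRing.iff_finrank_cotangentSpace S).1 inferInstance
    rw [← h1, ← h2, Nat.cast_le, ← Submodule.finrank_add_eq_of_isCompl hW, finrank_span_eq_card h] at hdim
    simpa using hdim
  have hspan : Submodule.span (ResidueField S) (Set.range v) = ⊤ := top_le_iff.1 hv
  have hli : LinearIndependent (ResidueField S) v := by
    rw [linearIndependent_iff_card_le_finrank_span, Set.finrank, hspan, finrank_top]
    exact hcard
  exact hli.comp Sum.inl Sum.inl_injective


end Groth.Agent.AbsAbh
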