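import Groth.Agent.AbsAbh.Closure
import Groth.Agent.AbsAbh.Divisible
import Groth.Agent.AbsAbh.Kummer
import Groth.Agent.TameAbh.KummerTame

/-!
# Unramifiedness along the parameters after adjoining roots
-/

set_option autoImplicit false
set_option backward.isDefEq.respectTransparency false

universe u

open IsLocalRing
open scoped TensorProduct

namespace Groth.Agent.AbsAbh

variable {A : Type u} [CommRing A] [IsDomain A] [IsRegularLocalRing A] {r : ℕ} (f : Fin r → A)
  [∀ i, (Ideal.span {f i}).IsPrime] (Γ : Type u) [CommRing Γ] [Algebra A Γ]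

/-- `e` is divisible by all ramification indices along `f i`. -/
def IsIndex (i : Fin r) (e : ℕ) : Prop :=
  ∀ (q : Ideal Γ) [q.IsPrime] (hq : Ideal.comap (algebraMap A Γ) q = ⊥) (V : ValuationSubring q.ResidueField)
    (hV : EtRam.Dominates (Localization.AtPrime (Ideal.span {f i}))
      (SGA1.genericResidueMap (algebraMap A Γ) (Ideal.span {f i}) q hq) V),
    letI : Algebra (Localization.AtPrime (Ideal.span {f i})) V :=
      (RingHom.codRestrict (SGA1.genericResidueMap (algebraMap A Γ) (Ideal.span {f i}) q hq) V hV.1).toAlgebra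
    Ideal.ramificationIdx' (maximalIdeal (Localization.AtPrime (Ideal.span {f i}))) (maximalIdeal V) ∣ e

variable {f Γ}

theorem finite_generic [Algebra.Etale A Γ] (K : Type u) [Field K] [Algebra A K] [IsFractionRing A K] (q : Ideal Γ)
    [q.IsPrime] (hq : Ideal.comap (algebraMap A Γ) q = ⊥) :
    ∃ (_ : Algebra K q.ResidueField) (_ : IsScalarTower A K q.ResidueField),
      FiniteDimensional K q.ResidueField ∧ Algebra.IsSeparable K q.ResidueField := by
  have hinj : Function.Injective (algebraMap A q.ResidueField) := by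
    rw [IsScalarTower.algebraMap_eq A Γ q.ResidueField, RingHom.injective_iff_ker_eq_bot, ← RingHom.comap_ker,
      Ideal.ker_algebraMap_residueField, hq]
  letI : Algebra K q.ResidueField := (IsFractionRing.lift hinj).toAlgebra
  haveI : IsScalarTower A K q.ResidueField :=
    IsScalarTower.of_algebraMap_eq fun a => (IsFractionRing.lift_algebraMap hinj a).symm
  refine ⟨inferInstance, inferInstance, ?_⟩
  haveI : Algebra.FormallyUnramified Γ (Localization.AtPrime q) :=
    Algebra.FormallyUnramified.of_isLocalization q.primeCompl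
  haveI : Algebra.FormallyUnramified Γ q.ResidueField :=
    Algebra.FormallyUnramified.comp Γ (Localization.AtPrime q) q.ResidueField
  haveI : Algebra.FormallyUnramified A q.ResidueField := Algebra.FormallyUnramified.comp A Γ q.ResidueField
  haveI : Algebra.FormallyUnramified K q.ResidueField :=
    Algebra.FormallyUnramified.of_restrictScalars A K q.ResidueField
  haveI : Algebra.EssFiniteType Γ q.ResidueField := Algebra.EssFiniteType.comp Γ (Localization.AtPrime q) _
  haveI : Algebra.EssFiniteType A q.ResidueField := Algebra.EssFiniteType.comp A Γ _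
  haveI : Algebra.EssFiniteType K q.ResidueField := Algebra.EssFiniteType.of_comp A K _
  exact ⟨Algebra.FormallyUnramified.finite_of_free K _, Algebra.FormallyUnramified.isSeparable K _⟩

theorem finite_genericPrimes [Algebra.Etale A Γ] :
    {q : PrimeSpectrum Γ | Ideal.comap (algebraMap A Γ) q.asIdeal = ⊥}.Finite := by
  haveI : (⊥ : Ideal A).IsPrime := Ideal.isPrime_bot
  haveI : Algebra.QuasiFinite A Γ := inferInstance
  refine (Algebra.QuasiFinite.finite_comap_preimage_singleton (⟨⊥, Ideal.isPrime_bot⟩ : PrimeSpectrum A)).subset ?_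
  intro q hq
  exact PrimeSpectrum.ext hq

theorem exists_index [Algebra.Etale A Γ] (hm : ∀ i, f i ∈ maximalIdeal A) (hf : CotIndep f hm)
    (htame : SGA1.IsTameAlong f (algebraMap A Γ)) (i : Fin r) :
    ∃ e : ℕ, 0 < e ∧ (e : ResidueField (Localization.AtPrime (Ideal.span {f i}))) ≠ 0 ∧ IsIndex f Γ i e := by
  classical
  let A₀ := Localization.AtPrime (Ideal.span {f i})
  haveI : IsDiscreteValuationRing A₀ := TameAbh.dvr_localization_span A (f i) (hf.prime i).1
  let K := FractionRing A
  have hu : ∀ y : (Ideal.span {f i}).primeCompl, IsUnit (algebraMap A K y) := fun y =>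
    isUnit_iff_ne_zero.2 fun h0 => y.2 (by
      rw [show (y : A) = 0 from IsFractionRing.injective A K (h0.trans (map_zero _).symm)]
      exact zero_mem _)
  letI : Algebra A₀ K := (IsLocalization.lift (S := A₀) hu).toAlgebra
  haveI : IsScalarTower A A₀ K := IsScalarTower.of_algebraMap_eq fun a => (IsLocalization.lift_eq hu a).symm
  haveI : IsFractionRing A₀ K :=
    IsFractionRing.isFractionRing_of_isDomain_of_isLocalization (Ideal.span {f i}).primeCompl A₀ K
  have h1 : ∀ q : {q : PrimeSpectrum Γ | Ideal.comap (algebraMap A Γ) q.asIdeal = ⊥}, ∃ e : ℕ, 0 < e ∧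
      (e : ResidueField A₀) ≠ 0 ∧ ∀ (V : ValuationSubring q.1.asIdeal.ResidueField)
      (hV : EtRam.Dominates A₀ (SGA1.genericResidueMap (algebraMap A Γ) (Ideal.span {f i}) q.1.asIdeal q.2) V),
      letI : Algebra A₀ V :=
        (RingHom.codRestrict (SGA1.genericResidueMap (algebraMap A Γ) (Ideal.span {f i}) q.1.asIdeal q.2) V hV.1).toAlgebra
      Ideal.ramificationIdx' (maximalIdeal A₀) (maximalIdeal V) ∣ e := by
    rintro ⟨q, hq⟩
    obtain ⟨_, _, hfin, hsep⟩ := finite_generic K q.asIdeal hq
    haveI := hfin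
    let L := q.asIdeal.ResidueField
    letI : Algebra A₀ L := (SGA1.genericResidueMap (algebraMap A Γ) (Ideal.span {f i}) q.asIdeal hq).toAlgebra
    haveI : IsScalarTower A₀ K L := IsScalarTower.of_algebraMap_eq' (by
      refine IsLocalization.ringHom_ext (Ideal.span {f i}).primeCompl (RingHom.ext fun a => ?_)
      show SGA1.genericResidueMap (algebraMap A Γ) _ q.asIdeal hq (algebraMap A A₀ a) =
        algebraMap K L (algebraMap A₀ K (algebraMap A A₀ a))
      rw [← IsScalarTower.algebraMap_apply A A₀ K, ← IsScalarTower.algebraMap_apply A K L]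
      exact (IsLocalization.lift_eq _ a).trans (IsScalarTower.algebraMap_apply A Γ L a).symm)
    exact TameAbh.exists_uniform_index (A := A₀) (K := K) (L := L) (htame i q.asIdeal hq)
  choose e he0 hek hdiv using h1
  haveI := (finite_genericPrimes (A := A) (Γ := Γ)).fintype
  refine ⟨∏ q, e q, Finset.prod_pos fun q _ => he0 q, ?_, fun q _ hq V hV => ?_⟩
  · rw [Nat.cast_prod]
    exact Finset.prod_ne_zero_iff.2 fun q _ => hek q
  · exact (hdiv ⟨⟨q, inferInstance⟩, hq⟩ V hV).trans (Finset.dvd_prod_of_mem _ (Finset.mem_univ _))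

set_option maxHeartbeats 2000000 in
set_option synthInstance.maxHeartbeats 200000 in
/-- Abhyankar: at a height one prime where the parameter has a root of divisible order, the base change of a
tame cover is unramified. -/
theorem unramFactors_of_roots [Algebra.Etale A Γ] (hm : ∀ i, f i ∈ maximalIdeal A) (hf : CotIndep f hm)
    (htame : SGA1.IsTameAlong f (algebraMap A Γ))
    (R : Type u) [CommRing R] [IsDomain R] [IsRegularLocalRing R] [Algebra A R] [Module.Finite A R]
    (hinjR : Function.Injective (algebraMap A R)) (K : Type u) [Field K] [Algebra R K] [IsFractionRing R K]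
    (e N : Fin r → ℕ) (he : ∀ i, (e i : ResidueField (Localization.AtPrime (Ideal.span {f i}))) ≠ 0)
    (hidx : ∀ i, IsIndex f Γ i (e i)) (P : Ideal R) [P.IsPrime] (hP : P.height = 1)
    (hFP : algebraMap A R (∏ i, f i) ∈ P)
    (hroot : ∀ i, algebraMap A R (f i) ∈ P → e i ∣ N i ∧ ∃ t : R, t ^ N i = algebraMap A R (f i))
    (S : Type u) [CommRing S] [IsDomain S] [IsDiscreteValuationRing S] [Algebra R S] [IsLocalization.AtPrime S P]
    [Algebra S K] [IsScalarTower R S K] [IsFractionRing S K] :
    UnramFactors S K (K ⊗[R] (R ⊗[A] Γ)) := by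
  classical
  intro M _ _ _ _ φ hφ
  obtain ⟨i, hi⟩ : ∃ i, algebraMap A R (f i) ∈ P := by
    rw [map_prod] at hFP
    obtain ⟨i, -, hi⟩ := (inferInstance : P.IsPrime).prod_mem_iff.1 hFP
    exact ⟨i, hi⟩
  obtain ⟨hdvd, t, ht⟩ := hroot i hi
  set Q := Ideal.span {f i}
  haveI : FaithfulSMul A R := (faithfulSMul_iff_algebraMap_injective A R).2 hinjR
  haveI := UFDLib.ufd_of_isRegularLocalRing A
  haveI : Algebra.IsIntegral A R := Algebra.IsIntegral.of_finite A R
  haveI : Algebra.HasGoingDown A R := inferInstance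
  have hPQ : P.comap (algebraMap A R) = Q := by
    set Q' := P.comap (algebraMap A R)
    haveI : Q'.IsPrime := Ideal.IsPrime.comap _
    haveI : P.LiesOver Q' := ⟨rfl⟩
    haveI : IsNoetherianRing R := inferInstance
    have hQ'1 : Q'.height ≤ 1 := by
      rw [← hP, Ideal.height_eq_height_add_of_liesOver_of_hasGoingDown Q' P]
      exact le_self_add
    have hle : Q ≤ Q' := (Ideal.span_singleton_le_iff_mem _).2 hi
    refine (hle.eq_or_lt.resolve_right fun hlt => ?_).symm
    haveI : (⊥ : Ideal A).IsPrime := Ideal.isPrime_bot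
    have h1 := Ideal.height_add_one_le_of_lt_of_isPrime (bot_lt_iff_ne_bot.2 (fun h0 =>
      (hf.prime i).1 (Ideal.span_singleton_eq_bot.1 h0)) : (⊥ : Ideal A) < Q)
    have h2 := Ideal.height_add_one_le_of_lt_of_isPrime hlt
    have h3 : (1 : ℕ∞) + 1 ≤ 1 := le_trans (le_trans (add_le_add_left (le_trans le_add_self h1) 1) h2) hQ'1
    exact absurd h3 (by norm_num)
  let A₀ := Localization.AtPrime Q
  haveI : IsDiscreteValuationRing A₀ := TameAbh.dvr_localization_span A (f i) (hf.prime i).1
  let K₀ := FractionRing A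
  have hu : ∀ y : Q.primeCompl, IsUnit (algebraMap A K₀ y) := fun y =>
    isUnit_iff_ne_zero.2 fun h0 => y.2 (by
      rw [show (y : A) = 0 from IsFractionRing.injective A K₀ (h0.trans (map_zero _).symm)]
      exact zero_mem _)
  letI : Algebra A₀ K₀ := (IsLocalization.lift (S := A₀) hu).toAlgebra
  haveI : IsScalarTower A A₀ K₀ := IsScalarTower.of_algebraMap_eq fun a => (IsLocalization.lift_eq hu a).symm
  haveI : IsFractionRing A₀ K₀ :=
    IsFractionRing.isFractionRing_of_isDomain_of_isLocalization Q.primeCompl A₀ K₀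
  have hAS : ∀ y : Q.primeCompl, IsUnit ((algebraMap R S).comp (algebraMap A R) y) := fun y =>
    IsLocalization.map_units S (⟨algebraMap A R y, fun h => y.2 (hPQ.le h)⟩ : P.primeCompl)
  let iS : A₀ →+* S := IsLocalization.lift hAS
  letI : Algebra A₀ S := iS.toAlgebra
  have hiS : ∀ a, algebraMap A₀ S (algebraMap A A₀ a) = algebraMap R S (algebraMap A R a) := fun a =>
    IsLocalization.lift_eq hAS a
  have hinjS : Function.Injective (algebraMap A₀ S) := by
    refine (injective_iff_map_eq_zero _).2 fun z hz => ?_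
    obtain ⟨⟨a, s⟩, hs⟩ := IsLocalization.surj Q.primeCompl z
    have h := congrArg (algebraMap A₀ S) hs
    rw [map_mul, hz, zero_mul, hiS] at h
    have ha : a = 0 := hinjR ((IsLocalization.injective S P.primeCompl_le_nonZeroDivisors
      (h.symm.trans (map_zero _).symm)).trans (map_zero _).symm)
    simp only [ha, map_zero] at hs
    exact (IsLocalization.map_units A₀ s).mul_left_eq_zero.1 hs
  haveI : IsLocalHom (algebraMap A₀ S) := ⟨fun z hz => by
    obtain ⟨⟨a, s⟩, hs⟩ := IsLocalization.surj Q.primeCompl z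
    have h1 : IsUnit (algebraMap R S (algebraMap A R a)) := by
      rw [← hiS, ← hs, map_mul]
      exact hz.mul ((IsLocalization.map_units A₀ s).map _)
    have haQ : a ∉ Q := fun h => (IsLocalization.AtPrime.isUnit_to_map_iff S P _).1 h1 (hPQ.ge h)
    exact isUnit_of_mul_isUnit_left (hs ▸ IsLocalization.map_units A₀ (⟨a, haQ⟩ : Q.primeCompl))⟩
  let g := (algebraMap K M).comp (algebraMap R K)
  let ψ : Γ →+* M := φ.toRingHom.comp ((Algebra.TensorProduct.includeRight :
    (R ⊗[A] Γ) →ₐ[R] K ⊗[R] (R ⊗[A] Γ)).toRingHom.comp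
      (Algebra.TensorProduct.includeRight : Γ →ₐ[A] R ⊗[A] Γ).toRingHom)
  have hψA : ∀ a, ψ (algebraMap A Γ a) = g (algebraMap A R a) := fun a => by
    show φ ((1 : K) ⊗ₜ[R] ((1 : R) ⊗ₜ[A] algebraMap A Γ a)) = algebraMap K M (algebraMap R K (algebraMap A R a))
    rw [← φ.commutes, Algebra.TensorProduct.algebraMap_apply]
    congr 1
    rw [Algebra.algebraMap_eq_smul_one (A := Γ), ← TensorProduct.smul_tmul, Algebra.smul_def, mul_one]
    rw [show ((algebraMap A R a) ⊗ₜ[A] (1 : Γ) : R ⊗[A] Γ) = (algebraMap A R a) • 1 from by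
      rw [Algebra.smul_def, mul_one]; rfl]
    rw [← TensorProduct.smul_tmul, Algebra.smul_def, mul_one]
    rfl
  have hginj : Function.Injective fun a => g (algebraMap A R a) :=
    ((algebraMap K M).injective.comp (IsFractionRing.injective R K)).comp hinjR
  let q := RingHom.ker ψ
  haveI : q.IsPrime := RingHom.ker_isPrime ψ
  have hq : Ideal.comap (algebraMap A Γ) q = ⊥ := eq_bot_iff.2 fun a ha => hginj (by
    show g (algebraMap A R a) = g (algebraMap A R 0)
    rw [← hψA, show ψ (algebraMap A Γ a) = 0 from ha, map_zero, map_zero])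
  obtain ⟨_, _, hfin, -⟩ := finite_generic K₀ q hq
  haveI := hfin
  let L := q.ResidueField
  letI : Algebra A₀ L := (SGA1.genericResidueMap (algebraMap A Γ) Q q hq).toAlgebra
  have hA₀L : ∀ a, algebraMap A₀ L (algebraMap A A₀ a) = algebraMap Γ L (algebraMap A Γ a) := fun a =>
    IsLocalization.lift_eq _ a
  haveI : IsScalarTower A₀ K₀ L := IsScalarTower.of_algebraMap_eq' (by
    refine IsLocalization.ringHom_ext Q.primeCompl (RingHom.ext fun a => ?_)
    show algebraMap A₀ L (algebraMap A A₀ a) = algebraMap K₀ L (algebraMap A₀ K₀ (algebraMap A A₀ a))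
    rw [hA₀L, ← IsScalarTower.algebraMap_apply A A₀ K₀, ← IsScalarTower.algebraMap_apply A K₀ L,
      ← IsScalarTower.algebraMap_apply A Γ L])
  let φL : L →+* M := Ideal.ResidueField.lift q ψ le_rfl fun x hx =>
    isUnit_iff_ne_zero.2 fun h => hx h
  have hφL : ∀ γ, φL (algebraMap Γ L γ) = ψ γ := fun γ => Ideal.ResidueField.lift_algebraMap _ _ _ _ γ
  have hc : φL.comp (algebraMap A₀ L) = ((algebraMap K M).comp (algebraMap S K)).comp (algebraMap A₀ S) := by
    refine IsLocalization.ringHom_ext Q.primeCompl (RingHom.ext fun a => ?_)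
    show φL (algebraMap A₀ L (algebraMap A A₀ a)) = algebraMap K M (algebraMap S K (algebraMap A₀ S (algebraMap A A₀ a)))
    rw [hA₀L, hφL, hψA, hiS, ← IsScalarTower.algebraMap_apply R S K]
    rfl
  have hgen : Subfield.closure (Set.range φL ∪ Set.range (algebraMap K M)) = ⊤ := by
    rw [eq_top_iff]
    rintro m -
    obtain ⟨z, rfl⟩ := hφ m
    set G := Subfield.closure (Set.range φL ∪ Set.range (algebraMap K M))
    have hK : ∀ k, algebraMap K M k ∈ G := fun k => Subfield.subset_closure (Or.inr ⟨k, rfl⟩)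
    induction z using TensorProduct.induction_on with
    | zero => rw [map_zero]; exact zero_mem _
    | add x y hx hy => rw [map_add]; exact add_mem hx hy
    | tmul k y =>
      induction y using TensorProduct.induction_on with
      | zero => rw [TensorProduct.tmul_zero, map_zero]; exact zero_mem _
      | add x y hx hy => rw [TensorProduct.tmul_add, map_add]; exact add_mem hx hy
      | tmul x γ =>
        have e1 : k ⊗ₜ[R] (x ⊗ₜ[A] γ) = algebraMap K (K ⊗[R] (R ⊗[A] Γ)) (k * algebraMap R K x) *
            ((1 : K) ⊗ₜ[R] ((1 : R) ⊗ₜ[A] γ)) := by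
          rw [Algebra.TensorProduct.algebraMap_apply, Algebra.TensorProduct.tmul_mul_tmul, one_mul, mul_one,
            Algebra.algebraMap_self, RingHom.id_apply, mul_comm, ← Algebra.smul_def, TensorProduct.smul_tmul,
            TensorProduct.smul_tmul', smul_eq_mul, mul_one]
        rw [e1, map_mul, φ.commutes]
        exact mul_mem (hK _) (Subfield.subset_closure (Or.inl ⟨algebraMap Γ L γ, hφL γ⟩))
  obtain ⟨ϖS, hϖS⟩ := IsDiscreteValuationRing.exists_irreducible S
  have htS : algebraMap R S t ^ N i = algebraMap A₀ S (algebraMap A A₀ (f i)) := by rw [hiS, ← map_pow, ht]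
  have hπ : Irreducible (algebraMap A A₀ (f i)) := by
    refine (IsDiscreteValuationRing.irreducible_iff_uniformizer _).2 ?_
    rw [← Localization.AtPrime.map_eq_maximalIdeal (I := Q), Ideal.map_span, Set.image_singleton]
  have ht0 : algebraMap R S t ≠ 0 := fun h0 => by
    rcases eq_or_ne (N i) 0 with hN | hN
    · rw [hN, pow_zero] at htS
      exact hπ.not_isUnit (IsUnit.of_map (algebraMap A₀ S) _ (htS ▸ isUnit_one))
    · rw [h0, zero_pow hN] at htS
      exact hπ.ne_zero (hinjS (htS.symm.trans (map_zero _).symm))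
  obtain ⟨k, u, hk⟩ := IsDiscreteValuationRing.eq_unit_mul_pow_irreducible ht0 hϖS
  obtain ⟨d, hd⟩ := hdvd
  exact unram_of_divisible (A₀ := A₀) (K₀ := K₀) (L := L) (S := S) (K := K) (M := M) hinjS φL hc hgen
    (htame i q hq) (e i) (he i) (fun V hV => hidx i q hq V hV) _ hπ ϖS hϖS (u ^ N i) (d * k) (by
      rw [← htS, hk, mul_pow, Units.val_pow_eq_pow_val, ← pow_mul, hd]
      congr 2
      ring)

end Groth.Agent.AbsAbh
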