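import Groth.Agent.AbsAbh.DvrEtale
import Groth.Agent.Purity.BranchLocus
import Groth.Agent.Purity.Normal
import Groth.Agent.Purity.CodimOne
import Groth.Agent.SerreReg.Descent

/-!
# Étaleness of the integral closure over a regular local ring, checked in codimension one
-/

set_option autoImplicit false
set_option backward.isDefEq.respectTransparency false

universe u

open IsLocalRing
open scoped TensorProduct

namespace Groth.Agent.AbsAbh

theorem dvr_of_height_one (R : Type u) [CommRing R] [IsDomain R] [IsRegularLocalRing R] (P : Ideal R) [P.IsPrime]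
    (hP : P.height = 1) : IsDiscreteValuationRing (Localization.AtPrime P) := by
  haveI := SerreReg.isRegularRing_of_isRegularLocalRing R
  haveI : IsRegularLocalRing (Localization.AtPrime P) := IsRegularRing.isRegularLocalRing_localization (R := R) P
  haveI := RegLoc.isDomain (Localization.AtPrime P)
  have hd : ringKrullDim (Localization.AtPrime P) = 1 := by
    rw [IsLocalization.AtPrime.ringKrullDim_eq_height P, hP]; rfl
  haveI := Purity.isPrincipalIdealRing_of_regular_dim_le_one (Localization.AtPrime P) hd.le
  exact { not_a_field' := fun h => by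
            have hf : IsField (Localization.AtPrime P) := IsLocalRing.isField_iff_maximalIdeal_eq.2 h
            rw [ringKrullDim_eq_zero_of_isField hf] at hd
            exact zero_ne_one hd }

theorem isEtaleAt_of_isLocalization {A C : Type u} [CommRing A] [CommRing C] [Algebra A C] (p : Ideal A) [p.IsPrime]
    (S : Type u) [CommRing S] [Algebra A S] [IsLocalization.AtPrime S p] (CS : Type u) [CommRing CS] [Algebra C CS]
    [Algebra A CS] [IsScalarTower A C CS] [Algebra S CS] [IsScalarTower A S CS] [Algebra.Etale S CS]
    [IsLocalization (Algebra.algebraMapSubmonoid C p.primeCompl) CS]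
    (q : Ideal C) [q.IsPrime] (hqp : q.comap (algebraMap A C) = p) : Algebra.IsEtaleAt A q := by
  have hle : Algebra.algebraMapSubmonoid C p.primeCompl ≤ q.primeCompl := by
    rintro _ ⟨s, hs, rfl⟩ hmem
    exact hs (hqp ▸ (show s ∈ q.comap (algebraMap A C) from hmem))
  let Cq := Localization.AtPrime q
  letI : Algebra CS Cq := IsLocalization.localizationAlgebraOfSubmonoidLe CS Cq _ _ hle
  haveI : IsScalarTower C CS Cq :=
    IsLocalization.localization_isScalarTower_of_submonoid_le CS Cq _ _ hle
  haveI : IsScalarTower A CS Cq := IsScalarTower.to₁₃₄ A C CS Cq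
  haveI := IsLocalization.isLocalization_of_submonoid_le CS Cq _ _ hle
  haveI : Algebra.FormallyEtale CS Cq :=
    .of_isLocalization (q.primeCompl.map (algebraMap C CS))
  haveI : Algebra.FormallyEtale A S := .of_isLocalization p.primeCompl
  haveI : Algebra.FormallyEtale A CS := .comp A S CS
  exact Algebra.FormallyEtale.comp A CS Cq

variable (R : Type u) [CommRing R] [IsDomain R] [IsRegularLocalRing R] (K : Type u) [Field K] [Algebra R K]
  [IsFractionRing R K] (B : Type u) [CommRing B] [Algebra R B]

/-- Unramifiedness over every height one prime containing `F`. -/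
def UnramAlong (F : R) : Prop :=
  ∀ (P : Ideal R) [P.IsPrime], P.height = 1 → F ∈ P →
    ∀ (S : Type u) [CommRing S] [IsDomain S] [IsDiscreteValuationRing S] [Algebra R S] [IsLocalization.AtPrime S P]
      [Algebra S K] [IsScalarTower R S K] [IsFractionRing S K], UnramFactors S K (K ⊗[R] B)

set_option maxHeartbeats 1000000 in
set_option synthInstance.maxHeartbeats 200000 in
/-- The integral closure of a regular local ring in an étale algebra over `R[1/F]`, unramified along `F`, is
finite étale. -/
theorem etale_integralClosure_regular [Algebra.Etale R B] (F : R) (hF : F ≠ 0) (hFB : IsUnit (algebraMap R B F))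
    (hint : ∀ b : B, ∃ k : ℕ, IsIntegral R (F ^ k • b)) (h : UnramAlong R K B F) :
    Algebra.Etale R (integralClosure R B) ∧ Module.Finite R (integralClosure R B) := by
  classical
  haveI := SerreReg.isRegularRing_of_isRegularLocalRing R
  haveI := UFDLib.ufd_of_isRegularLocalRing R
  let E := K ⊗[R] B
  let ι : B →ₐ[R] E := Algebra.TensorProduct.includeRight
  have hι : Function.Injective ι :=
    Algebra.TensorProduct.includeRight_injective (IsFractionRing.injective R K)
  obtain ⟨I, hI, Ai, _, _, e, hAi⟩ := (Algebra.Etale.iff_exists_algEquiv_prod K E).1 inferInstance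
  haveI := Fintype.ofFinite I
  letI : ∀ i, Algebra R (Ai i) := fun i => ((algebraMap K (Ai i)).comp (algebraMap R K)).toAlgebra
  haveI : ∀ i, IsScalarTower R K (Ai i) := fun i => IsScalarTower.of_algebraMap_eq fun _ => rfl
  haveI := fun i => (hAi i).1
  haveI := fun i => (hAi i).2
  haveI : ∀ i, Module.Finite R (integralClosure R (Ai i)) := fun i =>
    IsIntegralClosure.finite R K (Ai i) (integralClosure R (Ai i))
  let π : ∀ i, B →ₐ[R] Ai i := fun i =>
    (((Pi.evalAlgHom K Ai i).comp e.toAlgHom).restrictScalars R).comp ι
  have hπinj : ∀ b b' : B, (∀ i, π i b = π i b') → b = b' := fun b b' hb =>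
    hι (e.injective (funext hb))
  set C := integralClosure R B
  let φ : C →ₐ[R] (∀ i, integralClosure R (Ai i)) := Pi.algHom R _ fun i =>
    ((π i).comp C.val).codRestrict _ fun c => c.2.map (π i)
  have hφ : Function.Injective φ := fun c c' hc =>
    Subtype.ext (hπinj _ _ fun i => congrArg Subtype.val (congrFun hc i))
  haveI : Module.Finite R C := Module.Finite.of_injective φ.toLinearMap hφ
  refine ⟨Purity.etale_of_codim_one' (fun p _ => IsRegularRing.isRegularLocalRing_localization (R := R) p) ?_ ?_,
    inferInstance⟩
  · intro a b ha _ hab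
    have hB : Purity.TwoWith a b B := Purity.two_of_flat hab B
    refine ⟨fun m hm => Subtype.ext (hB.inj _ (congrArg Subtype.val hm)), fun m n hmn => ?_⟩
    obtain ⟨z, hz⟩ := hB.cancel (m : B) (n : B) (congrArg Subtype.val hmn)
    refine ⟨⟨z, ?_⟩, Subtype.ext hz⟩
    have hzi : ∀ i, IsIntegral R (π i z) := fun i => by
      haveI : IsIntegrallyClosed (integralClosure R (Ai i)) :=
        integralClosure.isIntegrallyClosedOfFiniteExtension K
      have hinj : Function.Injective (algebraMap R (integralClosure R (Ai i))) := fun x y hxy => by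
        have h1 := congrArg Subtype.val hxy
        exact IsFractionRing.injective R K ((algebraMap K (Ai i)).injective h1)
      obtain ⟨w, hw⟩ := (Purity.two_normal hab ha (integralClosure R (Ai i)) hinj).cancel (φ m i) (φ n i)
        (by
          have h0 := congrFun (congrArg φ hmn) i
          simp only [map_smul, Pi.smul_apply] at h0
          exact h0)
      have h1 : a • π i z = a • (w : Ai i) := by
        rw [← map_smul, ← hz]
        exact congrArg Subtype.val hw
      have h2 : π i z = w := by
        rw [Algebra.smul_def, Algebra.smul_def] at h1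
        refine mul_left_cancel₀ (fun h0 => ha ?_) h1
        exact IsFractionRing.injective R K ((algebraMap K (Ai i)).injective
          ((h0 : algebraMap K (Ai i) (algebraMap R K a) = 0).trans (by simp)))
      rw [h2]
      exact w.2
    choose p hp hpz using hzi
    refine ⟨∏ i, p i, Polynomial.monic_prod_of_monic _ _ fun i _ => hp i, hπinj _ _ fun i => ?_⟩
    rw [map_zero, Polynomial.eval₂_finsetProd, map_prod]
    refine Finset.prod_eq_zero (Finset.mem_univ i) ?_
    rw [← hpz i]
    exact (Polynomial.aeval_algHom_apply (π i) z (p i)).symm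
  intro p hp hple
  haveI := hp
  by_cases hFp : F ∈ p
  swap
  · refine ⟨F, hFp, ?_⟩
    letI : Algebra C B := C.val.toRingHom.toAlgebra
    haveI : IsScalarTower R C B := IsScalarTower.of_algebraMap_eq fun _ => rfl
    haveI : IsLocalization.Away (algebraMap R C F) B := by
      refine IsLocalization.Away.mk (algebraMap R C F) hFB (fun b => ?_) fun c c' hcc => ?_
      · obtain ⟨k, hk⟩ := hint b
        exact ⟨k, ⟨F ^ k • b, hk⟩, by
          show b * (algebraMap R B F) ^ k = F ^ k • b
          rw [Algebra.smul_def, map_pow, mul_comm]⟩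
      · exact ⟨0, by rw [Subtype.ext hcc]⟩
    exact Algebra.Etale.of_equiv ((IsLocalization.algEquiv (Submonoid.powers (algebraMap R C F)) B
      (Localization.Away (algebraMap R C F))).restrictScalars R)
  have hp1 : p.height = 1 := by
    refine le_antisymm hple (Order.one_le_iff_pos.2 (pos_iff_ne_zero.2 fun h0 => hF ?_))
    have : p = ⊥ := by
      by_contra hne
      haveI : (⊥ : Ideal R).IsPrime := Ideal.isPrime_bot
      have h1 := Ideal.height_add_one_le_of_lt_of_isPrime (bot_lt_iff_ne_bot.2 hne : (⊥ : Ideal R) < p)
      rw [h0] at h1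
      exact absurd h1 (by simp)
    rwa [this, Ideal.mem_bot] at hFp
  haveI := dvr_of_height_one R p hp1
  let S := Localization.AtPrime p
  have hu : ∀ y : p.primeCompl, IsUnit (algebraMap R K y) := fun y =>
    isUnit_iff_ne_zero.2 fun h0 => y.2 (by
      rw [show (y : R) = 0 from IsFractionRing.injective R K (h0.trans (map_zero _).symm)]
      exact p.zero_mem)
  letI : Algebra S K := (IsLocalization.lift hu).toAlgebra
  haveI : IsScalarTower R S K := IsScalarTower.of_algebraMap_eq fun x => (IsLocalization.lift_eq hu x).symm
  haveI : IsFractionRing S K := IsFractionRing.isFractionRing_of_isDomain_of_isLocalization p.primeCompl S K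
  obtain ⟨het, -⟩ := etale_integralClosure S K E (h p hp1 hFp S)
  haveI := het
  set CS := integralClosure S E
  letI : Algebra C CS := ((ι.comp C.val).toRingHom.codRestrict CS.toSubring fun c =>
    (c.2.map ι).tower_top).toAlgebra
  haveI : IsScalarTower R C CS := IsScalarTower.of_algebraMap_eq fun x => Subtype.ext (by
    show algebraMap R E x = ι (algebraMap R B x)
    rw [ι.commutes])
  haveI hloc : IsLocalization (Algebra.algebraMapSubmonoid C p.primeCompl) CS := by
    refine (isLocalization_iff _ _).2 ⟨?_, ?_, ?_⟩
    · rintro ⟨_, s, hs, rfl⟩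
      rw [← IsScalarTower.algebraMap_apply R C CS, IsScalarTower.algebraMap_apply R S CS]
      exact (IsLocalization.map_units S (⟨s, hs⟩ : p.primeCompl)).map _
    · intro x
      obtain ⟨⟨s, hs⟩, hsx⟩ := IsIntegral.exists_multiple_integral_of_isLocalization p.primeCompl (x : E) x.2
      have hden : ∀ y : E, ∃ d : R, d ≠ 0 ∧ ∃ b : B, d • y = ι b := by
        intro y
        induction y using TensorProduct.induction_on with
        | zero => exact ⟨1, one_ne_zero, 0, by rw [smul_zero, map_zero]⟩
        | tmul k b =>
          obtain ⟨x, d, hd, rfl⟩ := IsFractionRing.div_surjective (A := R) k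
          have hd0 : algebraMap R K d ≠ 0 := fun h0 =>
            nonZeroDivisors.ne_zero hd (IsFractionRing.injective R K (h0.trans (map_zero _).symm))
          refine ⟨d, nonZeroDivisors.ne_zero hd, x • b, ?_⟩
          show d • ((algebraMap R K x / algebraMap R K d) ⊗ₜ[R] b) = (1 : K) ⊗ₜ[R] (x • b)
          rw [TensorProduct.smul_tmul', Algebra.smul_def, mul_div_cancel₀ _ hd0, ← TensorProduct.smul_tmul,
            Algebra.smul_def, mul_one]
        | add y y' hy hy' =>
          obtain ⟨d, hd, b, hb⟩ := hy
          obtain ⟨d', hd', b', hb'⟩ := hy'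
          refine ⟨d * d', mul_ne_zero hd hd', d' • b + d • b', ?_⟩
          rw [map_add, map_smul, map_smul, ← hb, ← hb', smul_add, smul_smul, smul_smul, mul_comm d' d]
      obtain ⟨d, hd0, b, hb⟩ := hden (s • (x : E))
      have hFS : algebraMap R S F ∈ IsLocalRing.maximalIdeal S :=
        (IsLocalization.AtPrime.to_map_mem_maximal_iff S p F).2 hFp
      obtain ⟨ϖ, hϖ⟩ := IsDiscreteValuationRing.exists_irreducible S
      have hdS : algebraMap R S d ≠ 0 := fun h0 => hd0 (IsLocalization.injective S p.primeCompl_le_nonZeroDivisors
        (h0.trans (map_zero _).symm))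
      obtain ⟨k, u, hk⟩ := IsDiscreteValuationRing.eq_unit_mul_pow_irreducible hdS hϖ
      obtain ⟨g, hg⟩ := Ideal.mem_span_singleton.1
        ((IsDiscreteValuationRing.irreducible_iff_uniformizer ϖ).1 hϖ ▸ hFS)
      obtain ⟨⟨z, s'⟩, hz⟩ := IsLocalization.surj p.primeCompl ((↑u⁻¹ : S) * g ^ k)
      have key : d * z = (s' : R) * F ^ k := IsLocalization.injective S p.primeCompl_le_nonZeroDivisors (by
        rw [map_mul, map_mul, map_pow, ← hz, hg, hk]
        linear_combination (ϖ ^ k * g ^ k * algebraMap R S (s' : R)) * u.mul_inv)
      obtain ⟨w, hw⟩ := hFB.pow k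
      let b' : B := (↑w⁻¹ : B) * (z • b)
      have hb' : ι b' = (((s' : R) * s) • (x : E)) := by
        have h1 : ι (z • b) = (F ^ k) • (((s' : R) * s) • (x : E)) := by
          rw [map_smul, ← hb, smul_smul, smul_smul, smul_smul]
          congr 1
          linear_combination s * key
        rw [map_mul, h1, Algebra.smul_def (F ^ k), ← mul_assoc, ← ι.commutes, ← map_mul, map_pow, ← hw,
          Units.inv_mul, map_one, one_mul]
      refine ⟨⟨⟨b', ?_⟩, ⟨algebraMap R C ((s' : R) * s), (s' : R) * s, mul_mem s'.2 hs, rfl⟩⟩, Subtype.ext ?_⟩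
      · refine (isIntegral_algHom_iff ι hι).1 ?_
        rw [hb', mul_smul]
        exact hsx.smul _
      · show (x : E) * ι (algebraMap R B ((s' : R) * s)) = ι b'
        rw [hb', ι.commutes, Algebra.smul_def, mul_comm]
    · intro c c' hcc
      exact ⟨1, by rw [Subtype.ext (hι (congrArg Subtype.val hcc))]⟩
  exact Purity.exists_etale_away p fun q hq hqp => by
    haveI := hq
    exact isEtaleAt_of_isLocalization p S CS q hqp

end Groth.Agent.AbsAbh
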