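import Groth.Agent.AbsAbh.Trivial

/-!
# Unramified extensions inside strictly henselian or radicial extensions
-/

set_option autoImplicit false
set_option backward.isDefEq.respectTransparency false

universe u

open IsLocalRing
open scoped TensorProduct

namespace Groth.Agent.AbsAbh

/-- A point with values in a field of a finite étale algebra over a ring mapping to a strictly henselian domain
takes values in that domain. -/
theorem mem_range_of_strict {R' S' Ω C : Type u} [CommRing R'] [CommRing S'] [IsDomain S'] [HenselianLocalRing S']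
    [IsSepClosed (ResidueField S')] [Field Ω] [Algebra R' S'] [Algebra S' Ω] [Algebra R' Ω] [IsScalarTower R' S' Ω]
    (hS : Function.Injective (algebraMap S' Ω)) [CommRing C] [Algebra R' C] [Algebra.Etale R' C] [Module.Finite R' C]
    (χ : C →ₐ[R'] Ω) (c : C) : ∃ s : S', χ c = algebraMap S' Ω s := by
  let θ : S' ⊗[R'] C →ₐ[S'] Ω :=
    Algebra.TensorProduct.lift (Algebra.ofId S' Ω) χ fun _ _ => Commute.all _ _
  have hinj : Function.Injective (algebraMap S' θ.range) := fun a b h => hS (congrArg Subtype.val h)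
  haveI : IsDomain θ.range := inferInstance
  haveI : Module.Finite S' θ.range := Module.Finite.of_surjective θ.rangeRestrict.toLinearMap θ.rangeRestrict_surjective
  haveI : Algebra.FormallyUnramified S' θ.range :=
    Algebra.FormallyUnramified.of_surjective θ.rangeRestrict θ.rangeRestrict_surjective
  obtain ⟨s, hs⟩ := surjective_of_strict hinj (⟨θ ((1 : S') ⊗ₜ c), ⟨_, rfl⟩⟩ : θ.range)
  exact ⟨s, by
    rw [show algebraMap S' Ω s = θ ((1 : S') ⊗ₜ c) from congrArg Subtype.val hs]
    simp [θ]⟩

/-- A point of a finite unramified algebra over `S_P` with values in the fraction field of a radicial normal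
extension of `S` takes values in `S_P`. -/
theorem mem_range_of_radicial {S S' S₁ Ω C : Type u} [CommRing S] [IsDomain S] [CommRing S'] [IsDomain S']
    [IsIntegrallyClosed S'] [Algebra S S'] [Algebra.IsIntegral S S'] (hinj : Function.Injective (algebraMap S S'))
    (P : Ideal S) [P.IsPrime] [CommRing S₁] [IsDomain S₁] [IsLocalRing S₁] [Algebra S S₁]
    [IsLocalization.AtPrime S₁ P]
    (p : ℕ) [Fact p.Prime] (hpP : (p : S) ∈ P)
    (hrad : ∀ x : S', ∃ (k : ℕ) (a : S) (w : S'), x ^ p ^ k = algebraMap S S' a + (p : S') * w)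
    (K' : Type u) [Field K'] [Algebra S' K'] [IsFractionRing S' K'] [Field Ω] [Algebra K' Ω]
    [Algebra S Ω] (hSΩ : ∀ a, algebraMap S Ω a = algebraMap K' Ω (algebraMap S' K' (algebraMap S S' a)))
    [Algebra S₁ Ω] [IsScalarTower S S₁ Ω]
    [CommRing C] [Algebra S₁ C] [Module.Finite S₁ C] [Algebra.FormallyUnramified S₁ C] (χ : C →ₐ[S₁] Ω)
    (hχ : ∀ c, ∃ z : K', χ c = algebraMap K' Ω z) (c : C) : ∃ x : S₁, χ c = algebraMap S₁ Ω x := by
  classical
  let M := Algebra.algebraMapSubmonoid S' P.primeCompl
  have hM : M ≤ nonZeroDivisors S' := by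
    rintro _ ⟨s, hs, rfl⟩
    exact mem_nonZeroDivisors_of_ne_zero fun h => hs (by
      rw [hinj (h.trans (map_zero _).symm)]; exact P.zero_mem)
  let T := Localization M
  haveI : IsDomain T := IsLocalization.isDomain_localization hM
  haveI : IsIntegrallyClosed T := isIntegrallyClosed_of_isLocalization (R := S') T M hM
  let iT : T →+* K' := IsLocalization.lift (M := M) (g := algebraMap S' K') fun y =>
    isUnit_iff_ne_zero.2 fun h => nonZeroDivisors.ne_zero (hM y.2)
      (IsFractionRing.injective S' K' (h.trans (map_zero _).symm))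
  letI : Algebra T K' := iT.toAlgebra
  haveI : IsScalarTower S' T K' := IsScalarTower.of_algebraMap_eq fun a => (IsLocalization.lift_eq _ a).symm
  haveI : IsFractionRing T K' := IsFractionRing.isFractionRing_of_isDomain_of_isLocalization M T K'
  let iS₁ : S₁ →+* T := IsLocalization.map (M := P.primeCompl) (T := M) T (algebraMap S S')
    (fun s hs => ⟨s, hs, rfl⟩)
  letI : Algebra S₁ T := iS₁.toAlgebra
  haveI : IsScalarTower S S₁ T := IsScalarTower.of_algebraMap_eq fun a => by
    rw [RingHom.algebraMap_toAlgebra, IsLocalization.map_eq, ← IsScalarTower.algebraMap_apply S S' T]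
  haveI : Algebra.IsIntegral S₁ T := ⟨fun x => by
    obtain ⟨⟨a, ⟨_, s, hs, rfl⟩⟩, hx⟩ := IsLocalization.surj M x
    have ha : IsIntegral S₁ (algebraMap S' T a) :=
      ((Algebra.IsIntegral.isIntegral (R := S) a).map (IsScalarTower.toAlgHom S S' T)).tower_top
    obtain ⟨u, hu⟩ := IsLocalization.map_units S₁ (⟨s, hs⟩ : P.primeCompl)
    have e : x = algebraMap S' T a * algebraMap S₁ T (↑u⁻¹ : S₁) := by
      rw [← hx]
      show x = x * algebraMap S' T (algebraMap S S' s) * algebraMap S₁ T (↑u⁻¹ : S₁)
      rw [← IsScalarTower.algebraMap_apply S S' T, IsScalarTower.algebraMap_apply S S₁ T, ← hu, mul_assoc, ← map_mul,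
        Units.mul_inv, map_one, mul_one]
    rw [e]
    exact ha.mul isIntegral_algebraMap⟩
  have hover : ∀ N : Ideal T, N.IsMaximal → ((N.comap (algebraMap S' T)).comap (algebraMap S S')) = P := by
    intro N hN
    rw [Ideal.comap_comap, ← IsScalarTower.algebraMap_eq, IsScalarTower.algebraMap_eq S S₁ T, ← Ideal.comap_comap,
      eq_maximalIdeal (Ideal.isMaximal_comap_of_isIntegral_of_isMaximal (R := S₁) N)]
    exact IsLocalization.AtPrime.comap_maximalIdeal S₁ P
  have huniq : ∀ N N' : Ideal T, N.IsMaximal → N'.IsMaximal → N ≤ N' := by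
    intro N N' hN hN'
    intro y hy
    obtain ⟨⟨a, d⟩, hy'⟩ := IsLocalization.surj M y
    obtain ⟨k, b, w, hk⟩ := hrad a
    have hpN : ∀ N : Ideal T, N.IsMaximal → (p : S') ∈ N.comap (algebraMap S' T) := fun N hN => by
      rw [← map_natCast (algebraMap S S') p, ← Ideal.mem_comap, hover N hN]; exact hpP
    have ha : a ∈ N.comap (algebraMap S' T) := by
      show algebraMap S' T a ∈ N
      rw [← hy']
      exact N.mul_mem_right _ hy
    have hb : b ∈ P := by
      rw [← hover N hN, Ideal.mem_comap, show algebraMap S S' b = a ^ p ^ k - (p : S') * w by rw [hk]; ring]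
      exact sub_mem (Ideal.pow_mem_of_mem _ ha _ (pow_pos (Fact.out (p := p.Prime)).pos _))
        (Ideal.mul_mem_right _ _ (hpN N hN))
    have ha' : a ^ p ^ k ∈ N'.comap (algebraMap S' T) := by
      rw [hk]
      exact add_mem (by rw [← Ideal.mem_comap, hover N' hN']; exact hb) (Ideal.mul_mem_right _ _ (hpN N' hN'))
    have h2 : algebraMap S' T a ∈ N' := by
      haveI := hN'.isPrime
      exact (inferInstance : N'.IsPrime).mem_of_pow_mem (p ^ k) (by rw [← map_pow]; exact ha')
    rw [← hy'] at h2
    exact (Ideal.mul_unit_mem_iff_mem _ (IsLocalization.map_units T d)).1 h2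
  haveI : Nontrivial T := inferInstance
  haveI : IsLocalRing T := by
    obtain ⟨N, hN⟩ := Ideal.exists_maximal T
    exact IsLocalRing.of_unique_max_ideal ⟨N, hN, fun N' hN' => le_antisymm (huniq N' N hN' hN) (huniq N N' hN hN')⟩
  letI : Algebra T Ω := ((algebraMap K' Ω).comp (algebraMap T K')).toAlgebra
  haveI : IsScalarTower S₁ T Ω := IsScalarTower.of_algebraMap_eq' (by
    refine IsLocalization.ringHom_ext P.primeCompl (RingHom.ext fun a => ?_)
    show algebraMap S₁ Ω (algebraMap S S₁ a) = algebraMap K' Ω (algebraMap T K' (algebraMap S₁ T (algebraMap S S₁ a)))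
    rw [← IsScalarTower.algebraMap_apply S S₁ Ω, hSΩ, ← IsScalarTower.algebraMap_apply S S₁ T,
      IsScalarTower.algebraMap_apply S S' T, ← IsScalarTower.algebraMap_apply S' T K'])
  have hT : ∀ c : C, ∃ t : T, χ c = algebraMap T Ω t := by
    intro c
    obtain ⟨z, hz⟩ := hχ c
    have hint : IsIntegral T z := by
      have h1 : IsIntegral T (χ c) := ((Algebra.IsIntegral.isIntegral (R := S₁) c).map χ).tower_top
      rw [hz] at h1
      letI : IsScalarTower T K' Ω := IsScalarTower.of_algebraMap_eq fun _ => rfl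
      exact (isIntegral_algebraMap_iff (algebraMap K' Ω).injective).1 h1
    obtain ⟨t, ht⟩ := IsIntegrallyClosed.isIntegral_iff.1 hint
    exact ⟨t, by rw [hz, ← ht]; rfl⟩
  have hTinj : Function.Injective (algebraMap T Ω) := (algebraMap K' Ω).injective.comp (IsFractionRing.injective T K')
  choose t ht using hT
  let τ : C →ₐ[S₁] T :=
    { toFun := t
      map_one' := hTinj (by rw [← ht, map_one, map_one])
      map_mul' := fun x y => hTinj (by rw [map_mul, ← ht, ← ht, ← ht, map_mul])
      map_zero' := hTinj (by rw [← ht, map_zero, map_zero])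
      map_add' := fun x y => hTinj (by rw [map_add, ← ht, ← ht, ← ht, map_add])
      commutes' := fun x => hTinj (by
        rw [← ht, ← IsScalarTower.algebraMap_apply S₁ T Ω, χ.commutes]) }
  haveI : Module.Finite S₁ τ.range := Module.Finite.of_surjective τ.rangeRestrict.toLinearMap τ.rangeRestrict_surjective
  haveI : Algebra.FormallyUnramified S₁ τ.range :=
    Algebra.FormallyUnramified.of_surjective τ.rangeRestrict τ.rangeRestrict_surjective
  obtain ⟨x, hx⟩ := surjective_of_radicial (τ.range.val) Subtype.val_injective p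
    ((by
      rw [← map_natCast (algebraMap S S₁) p]
      exact (IsLocalization.AtPrime.to_map_mem_maximal_iff S₁ P _).2 hpP) : (p : S₁) ∈ maximalIdeal S₁)
    (fun y => by
      obtain ⟨⟨a, d, s, hs, hd⟩, hy⟩ := IsLocalization.surj M y
      obtain ⟨k, b, w, hk⟩ := hrad a
      obtain ⟨u, hu⟩ := (IsLocalization.map_units S₁ (⟨s, hs⟩ : P.primeCompl)).pow (p ^ k)
      refine ⟨k, algebraMap S S₁ b * ↑u⁻¹, ?_⟩
      have hdu : algebraMap S' T d ^ p ^ k = algebraMap S₁ T (u : S₁) := by
        rw [← hd, ← IsScalarTower.algebraMap_apply S S' T, IsScalarTower.algebraMap_apply S S₁ T, ← map_pow, hu]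
      have e : y ^ p ^ k - algebraMap S₁ T (algebraMap S S₁ b * ↑u⁻¹) =
          algebraMap S₁ T (↑u⁻¹ : S₁) * ((p : T) * algebraMap S' T w) := by
        have h2 := congrArg (· ^ p ^ k) hy
        simp only [mul_pow, hdu, ← map_pow (algebraMap S' T) a, hk, map_add, map_mul, map_natCast,
          ← IsScalarTower.algebraMap_apply S S' T] at h2
        have h3 : algebraMap S₁ T (u : S₁) * algebraMap S₁ T (↑u⁻¹ : S₁) = 1 := by
          rw [← map_mul, Units.mul_inv, map_one]
        rw [map_mul, ← IsScalarTower.algebraMap_apply S S₁ T]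
        linear_combination (algebraMap S₁ T (↑u⁻¹ : S₁)) * h2 - (y ^ p ^ k) * h3
      rw [e]
      refine Ideal.mul_mem_left _ _ (Ideal.mul_mem_right _ _ ?_)
      rw [← map_natCast (algebraMap S T) p, IsScalarTower.algebraMap_apply S S₁ T]
      show algebraMap S₁ T (algebraMap S S₁ (p : S)) ∈ maximalIdeal T
      rw [← Ideal.mem_comap, eq_maximalIdeal (Ideal.isMaximal_comap_of_isIntegral_of_isMaximal (R := S₁) (maximalIdeal T))]
      exact (IsLocalization.AtPrime.to_map_mem_maximal_iff S₁ P _).2 hpP)
    (⟨τ c, ⟨c, rfl⟩⟩ : τ.range)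
  refine ⟨x, ?_⟩
  rw [ht c, IsScalarTower.algebraMap_apply S₁ T Ω]
  exact congrArg (algebraMap T Ω) (congrArg Subtype.val hx).symm

end Groth.Agent.AbsAbh
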