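import Groth.Prelude.Def_SGA1
import Groth.Prelude.Def_FEt
import Mathlib

/-!
# From the integral closure to an extension of a finite étale cover
-/

set_option autoImplicit false
set_option backward.isDefEq.respectTransparency false

universe u

open CategoryTheory CategoryTheory.Limits AlgebraicGeometry
open scoped TensorProduct

namespace Groth.Agent.AbsAbh

variable {A : Type u} [CommRing A] {F : A} (V : FEt.Cat ((SGA1.specBasicOpen A F) : Scheme.{u}))

/-- The structure map of the sections of the cover. -/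
noncomputable abbrev sectionsMap : A →+* Γ(V.left, ⊤) :=
  ((V.hom ≫ (SGA1.specBasicOpen A F).ι).appTop).hom.comp (Scheme.ΓSpecIso (CommRingCat.of A)).inv.hom

theorem isAffine_left : IsAffine V.left := by
  haveI : IsAffine ((SGA1.specBasicOpen A F : (Spec (CommRingCat.of A)).Opens) : Scheme.{u}) := by
    refine IsAffineOpen.Spec_basicOpen (R := CommRingCat.of A) F
  haveI : IsFinite V.hom := V.prop.1
  exact isAffine_of_isAffineHom (X := V.left) (Y := ((SGA1.specBasicOpen A F : (Spec (CommRingCat.of A)).Opens) : Scheme.{u})) V.hom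

theorem hom_eq_specMap [IsAffine V.left] :
    V.hom ≫ (SGA1.specBasicOpen A F).ι =
      V.left.isoSpec.hom ≫ Spec.map (CommRingCat.ofHom (sectionsMap V)) := by
  set g := V.hom ≫ (SGA1.specBasicOpen A F).ι
  have h := Scheme.toSpecΓ_naturality g
  have e : (Spec (CommRingCat.of A)).toSpecΓ = Spec.map (Scheme.ΓSpecIso (CommRingCat.of A)).hom := by simp
  rw [e] at h
  have h2 : g = g ≫ Spec.map (Scheme.ΓSpecIso (CommRingCat.of A)).hom ≫ Spec.map (Scheme.ΓSpecIso (CommRingCat.of A)).inv := by
    rw [← Spec.map_comp, Iso.inv_hom_id, Spec.map_id, Category.comp_id]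
  rw [h2, ← Category.assoc, h, Category.assoc, ← Spec.map_comp]
  rfl

/-- The sections of the cover are étale over `A`, `F` is invertible and they are integral up to powers of `F`. -/
theorem sections_props :
    (sectionsMap V).Etale ∧ IsUnit (sectionsMap V F) ∧
      (letI := (sectionsMap V).toAlgebra; ∀ γ : Γ(V.left, ⊤), ∃ k : ℕ, IsIntegral A (F ^ k • γ)) := by
  haveI := isAffine_left V
  haveI : IsFinite V.hom := V.prop.1
  haveI : Etale V.hom := V.prop.2
  let o := Spec.map (CommRingCat.ofHom (algebraMap A (Localization.Away F)))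
  haveI : IsOpenImmersion o := IsOpenImmersion.of_isLocalization F
  have hr : Set.range o = Set.range (SGA1.specBasicOpen A F).ι := by
    rw [Scheme.Opens.range_ι]
    exact PrimeSpectrum.localization_away_comap_range (Localization.Away F) F
  let e := IsOpenImmersion.isoOfRangeEq o (SGA1.specBasicOpen A F).ι hr
  let χ := V.left.isoSpec.inv ≫ V.hom ≫ e.inv
  let ψ := Spec.preimage χ
  have hψ : Spec.map ψ = χ := Spec.map_preimage χ
  have hfin : ψ.hom.Finite := (IsFinite.SpecMap_iff ψ).1 (by rw [hψ]; infer_instance)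
  have het : ψ.hom.Etale := (HasRingHomProperty.Spec_iff (P := @Etale)).1 (by rw [hψ]; infer_instance)
  have hfac : sectionsMap V = ψ.hom.comp (algebraMap A (Localization.Away F)) := by
    have h : Spec.map (CommRingCat.ofHom (sectionsMap V)) =
        Spec.map (CommRingCat.ofHom (algebraMap A (Localization.Away F)) ≫ ψ) := by
      rw [Spec.map_comp]
      show _ = Spec.map ψ ≫ o
      rw [hψ]
      simp only [χ, Category.assoc, e, IsOpenImmersion.isoOfRangeEq_inv_fac]
      rw [hom_eq_specMap V, Iso.inv_hom_id_assoc]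
    exact congrArg CommRingCat.Hom.hom (Spec.map_injective h)
  refine ⟨?_, ?_, ?_⟩
  · rw [hfac]
    exact RingHom.Etale.stableUnderComposition _ _ (RingHom.etale_algebraMap.2 (Algebra.Etale.of_isLocalizationAway F)) het
  · rw [hfac]
    exact (IsLocalization.Away.algebraMap_isUnit F).map ψ.hom
  · letI := (sectionsMap V).toAlgebra
    intro γ
    letI : Algebra (Localization.Away F) Γ(V.left, ⊤) := ψ.hom.toAlgebra
    haveI : IsScalarTower A (Localization.Away F) Γ(V.left, ⊤) := IsScalarTower.of_algebraMap_eq' hfac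
    haveI : Module.Finite (Localization.Away F) Γ(V.left, ⊤) := hfin
    obtain ⟨⟨_, k, rfl⟩, hk⟩ := IsIntegral.exists_multiple_integral_of_isLocalization (Submonoid.powers F) γ
      (Algebra.IsIntegral.isIntegral (R := Localization.Away F) γ)
    exact ⟨k, hk⟩

/-- An étale integral closure gives the extension of the cover, abstract form. -/
theorem extends_of_algebra (Γ' : Type u) [CommRing Γ'] [Algebra A Γ'] (ε : V.left ≅ Spec (CommRingCat.of Γ'))
    (hv : V.hom ≫ (SGA1.specBasicOpen A F).ι = ε.hom ≫ Spec.map (CommRingCat.ofHom (algebraMap A Γ')))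
    (hunit : IsUnit (algebraMap A Γ' F)) (hint : ∀ γ : Γ', ∃ k : ℕ, IsIntegral A (F ^ k • γ))
    (A' : Type u) [CommRing A'] [Algebra A A']
    (het : Algebra.Etale A' (integralClosure A' (A' ⊗[A] Γ')))
    (hfin : Module.Finite A' (integralClosure A' (A' ⊗[A] Γ'))) :
    ∃ W : FEt.Cat (Spec (CommRingCat.of A')),
      Nonempty ((FEt.restrict ((Spec.map (CommRingCat.ofHom (algebraMap A A'))) ⁻¹ᵁ (SGA1.specBasicOpen A F)).ι).obj W ≅
        (FEt.restrict ((Spec.map (CommRingCat.ofHom (algebraMap A A'))) ∣_ (SGA1.specBasicOpen A F))).obj V) := by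
  let B := A' ⊗[A] Γ'
  let C := integralClosure A' B
  let U := SGA1.specBasicOpen A F
  let π := Spec.map (CommRingCat.ofHom (algebraMap A A'))
  let U' := π ⁻¹ᵁ U
  let w := Spec.map (CommRingCat.ofHom (algebraMap A' C))
  have hw : FEt.prop w := ⟨(IsFinite.SpecMap_iff _).2 ((RingHom.finite_algebraMap (A := A') (B := C)).2 hfin),
    (HasRingHomProperty.Spec_iff (P := @Etale)).2 ((RingHom.etale_algebraMap (R := A') (S := C)).2 het)⟩
  refine ⟨MorphismProperty.Over.mk ⊤ w hw, ?_⟩
  set F' := algebraMap A A' F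
  have hFB : IsUnit (algebraMap A' B F') := by
    have := IsUnit.map (Algebra.TensorProduct.includeRight : Γ' →ₐ[A] B) hunit
    rwa [AlgHom.commutes, IsScalarTower.algebraMap_apply A A' B] at this
  have hintB : ∀ b : B, ∃ k : ℕ, IsIntegral A' (F' ^ k • b) := by
    intro b
    induction b using TensorProduct.induction_on with
    | zero => exact ⟨0, by rw [smul_zero]; exact isIntegral_zero⟩
    | tmul x γ =>
      obtain ⟨k, hk⟩ := hint γ
      refine ⟨k, ?_⟩
      have h1 : IsIntegral A' ((1 : A') ⊗ₜ[A] (F ^ k • γ)) :=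
        (hk.map (Algebra.TensorProduct.includeRight : Γ' →ₐ[A] B)).tower_top
      have e : F' ^ k • (x ⊗ₜ[A] γ) = x • ((1 : A') ⊗ₜ[A] (F ^ k • γ)) := by
        rw [TensorProduct.smul_tmul', TensorProduct.smul_tmul', ← TensorProduct.smul_tmul, smul_eq_mul, smul_eq_mul,
          mul_one, Algebra.smul_def, map_pow]
      rw [e]
      exact h1.smul _
    | add y z hy hz =>
      obtain ⟨k, hk⟩ := hy
      obtain ⟨l, hl⟩ := hz
      refine ⟨k + l, ?_⟩
      rw [smul_add, pow_add]
      refine IsIntegral.add ?_ ?_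
      · rw [mul_comm, mul_smul]; exact hk.smul _
      · rw [mul_smul]; exact hl.smul _
  letI : Algebra C B := C.val.toRingHom.toAlgebra
  haveI : IsLocalization.Away (algebraMap A' C F') B := by
    refine IsLocalization.Away.mk (algebraMap A' C F') hFB (fun b => ?_) fun c c' hcc => ?_
    · obtain ⟨k, hk⟩ := hintB b
      exact ⟨k, ⟨F' ^ k • b, hk⟩, by
        show b * (algebraMap A' B F') ^ k = F' ^ k • b
        rw [Algebra.smul_def, map_pow, mul_comm]⟩
    · exact ⟨0, by rw [Subtype.ext hcc]⟩
  let u := Spec.map (CommRingCat.ofHom (algebraMap C B))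
  haveI : IsOpenImmersion u := IsOpenImmersion.of_isLocalization (algebraMap A' C F')
  let b := Spec.map (CommRingCat.ofHom (algebraMap A' B))
  have hbu : u ≫ w = b := (Spec.map_comp _ _).symm
  have hU' : ∀ y, y ∈ U' ↔ F' ∉ (y : PrimeSpectrum A').asIdeal := fun y => Iff.rfl
  have hsub : Set.range b ⊆ Set.range U'.ι := by
    rw [Scheme.Opens.range_ι]
    rintro _ ⟨z, rfl⟩
    refine (hU' _).2 fun h => ?_
    exact (z : PrimeSpectrum B).2.ne_top (Ideal.eq_top_of_isUnit_mem _ h hFB)
  let h' := IsOpenImmersion.lift U'.ι b hsub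
  have hh' : h' ≫ U'.ι = b := IsOpenImmersion.lift_fac _ _ _
  have p₁ : IsPullback u h' w U'.ι := by
    refine (IsOpenImmersion.isPullback h' u U'.ι w (hbu.trans hh'.symm) ?_).flip
    ext y
    show w y ∈ U'.ι.opensRange ↔ y ∈ Set.range u
    rw [Scheme.Opens.opensRange_ι, hU']
    show _ ↔ (y : PrimeSpectrum C) ∈ Set.range (PrimeSpectrum.comap (algebraMap C B))
    rw [PrimeSpectrum.localization_away_comap_range B (algebraMap A' C F')]
    rfl
  -- the base change of `V`
  let i₂ : Spec (CommRingCat.of B) ⟶ V.left :=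
    Spec.map (CommRingCat.ofHom (Algebra.TensorProduct.includeRight : Γ' →ₐ[A] B).toRingHom) ≫ ε.inv
  have p₂ : IsPullback i₂ b (V.hom ≫ U.ι) π := by
    refine ((isPullback_SpecMap_of_isPushout _ _ _ _ (CommRingCat.isPushout_tensorProduct A A' Γ')).flip).of_iso
      (Iso.refl _) ε.symm (Iso.refl _) (Iso.refl _) (by simp [i₂]) ?_ (by rw [hv]; simp) (by simp [π])
    show _ = 𝟙 _ ≫ b
    simp only [Category.id_comp, Iso.refl_hom, Category.comp_id]
    rfl
  have pV : IsPullback (pullback.fst V.hom (π ∣_ U)) (pullback.snd V.hom (π ∣_ U) ≫ U'.ι) (V.hom ≫ U.ι) π :=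
    (IsPullback.of_hasPullback V.hom (π ∣_ U)).paste_vert (isPullback_morphismRestrict π U).flip.flip
  let e₁ := (IsPullback.of_hasPullback w U'.ι).isoIsPullback _ _ p₁
  let e₂ := p₂.isoIsPullback _ _ pV
  refine ⟨MorphismProperty.Over.isoMk (e₁ ≪≫ e₂) ?_⟩
  show (e₁ ≪≫ e₂).hom ≫ pullback.snd V.hom (π ∣_ U) = pullback.snd w U'.ι
  have h1 : e₁.hom ≫ h' = pullback.snd w U'.ι := IsPullback.isoIsPullback_hom_snd _ _ _ _
  have h2 : e₂.hom ≫ pullback.snd V.hom (π ∣_ U) ≫ U'.ι = b := IsPullback.isoIsPullback_hom_snd _ _ _ _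
  rw [← cancel_mono U'.ι, Iso.trans_hom, Category.assoc, Category.assoc, h2, ← h1, Category.assoc, hh']

/-- An étale integral closure gives the extension of the cover. -/
theorem extends_of_closure (A' : Type u) [CommRing A'] [Algebra A A']
    (hC : letI := (sectionsMap V).toAlgebra
      Algebra.Etale A' (integralClosure A' (A' ⊗[A] Γ(V.left, ⊤))) ∧
        Module.Finite A' (integralClosure A' (A' ⊗[A] Γ(V.left, ⊤)))) :
    ∃ W : FEt.Cat (Spec (CommRingCat.of A')),
      Nonempty ((FEt.restrict ((Spec.map (CommRingCat.ofHom (algebraMap A A'))) ⁻¹ᵁ (SGA1.specBasicOpen A F)).ι).obj W ≅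
        (FEt.restrict ((Spec.map (CommRingCat.ofHom (algebraMap A A'))) ∣_ (SGA1.specBasicOpen A F))).obj V) := by
  haveI := isAffine_left V
  obtain ⟨-, hunit, hint⟩ := sections_props V
  letI := (sectionsMap V).toAlgebra
  exact extends_of_algebra V Γ(V.left, ⊤) V.left.isoSpec (hom_eq_specMap V) hunit hint A' hC.1 hC.2

end Groth.Agent.AbsAbh
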