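import Groth.Agent.AbsAbh.Along
import Groth.Agent.AbsAbh.Radicial
import Groth.Agent.AbsAbh.Scheme
import Mathlib.RingTheory.Etale.Basic
import Mathlib.RingTheory.Flat.FaithfullyFlat.Algebra

/-!
# Kummer coverings dominate tame covers over a strictly henselian base
-/

set_option autoImplicit false
set_option backward.isDefEq.respectTransparency false

universe u

open CategoryTheory CategoryTheory.Limits AlgebraicGeometry IsLocalRing
open scoped TensorProduct

namespace Groth.Agent.AbsAbh

theorem exists_hom_away {A A' Γ : Type u} [CommRing A] [IsDomain A] [IsRegularLocalRing A] [CommRing A'] [IsDomain A']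
    [HenselianLocalRing A'] [IsSepClosed (ResidueField A')] [Algebra A A'] [CommRing Γ] [Nontrivial Γ] [Algebra A Γ]
    [Algebra.Etale A Γ] (hinj : Function.Injective (algebraMap A A')) (F : A) (hF : F ≠ 0)
    (hint : ∀ γ : Γ, ∃ k : ℕ, IsIntegral A (F ^ k • γ))
    [Algebra.Etale A' (integralClosure A' (A' ⊗[A] Γ))] [Module.Finite A' (integralClosure A' (A' ⊗[A] Γ))] :
    Nonempty (Γ →ₐ[A] Localization.Away (algebraMap A A' F)) := by
  obtain ⟨q, hq⟩ := (inferInstance : Nonempty (PrimeSpectrum Γ))
  obtain ⟨q₀, hq₀, -⟩ := Ideal.exists_minimalPrimes_le (I := (⊥ : Ideal Γ)) (J := q) bot_le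
  haveI : q₀.IsPrime := hq₀.1.1
  have hq₀A : Ideal.comap (algebraMap A Γ) q₀ = ⊥ := by
    by_contra hne
    haveI : q₀.LiesOver (Ideal.comap (algebraMap A Γ) q₀) := ⟨rfl⟩
    haveI : (⊥ : Ideal A).IsPrime := Ideal.isPrime_bot
    obtain ⟨P, hPle, hP, hover⟩ := Ideal.exists_ideal_lt_liesOver_of_lt (p := (⊥ : Ideal A))
      (q := Ideal.comap (algebraMap A Γ) q₀) q₀ (bot_lt_iff_ne_bot.2 hne)
    exact absurd (hq₀.2 ⟨hP, bot_le⟩ hPle.le) (not_le_of_gt hPle)
  obtain ⟨_, _, _, hsep⟩ := finite_generic (Γ := Γ) (FractionRing A) q₀ hq₀A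
  let K' := FractionRing A'
  let Ω := AlgebraicClosure K'
  have hA'Ω : Function.Injective (algebraMap A' Ω) := by
    rw [IsScalarTower.algebraMap_eq A' K' Ω]
    exact (algebraMap K' Ω).injective.comp (IsFractionRing.injective A' K')
  have hAΩ : Function.Injective (algebraMap A Ω) := by
    rw [IsScalarTower.algebraMap_eq A A' Ω]
    exact hA'Ω.comp hinj
  letI : Algebra (FractionRing A) Ω := (IsFractionRing.lift hAΩ).toAlgebra
  haveI : IsScalarTower A (FractionRing A) Ω :=
    IsScalarTower.of_algebraMap_eq fun a => (IsFractionRing.lift_algebraMap hAΩ a).symm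
  haveI : Algebra.IsAlgebraic (FractionRing A) q₀.ResidueField := Algebra.IsAlgebraic.of_finite _ _
  let χ₀ : Γ →ₐ[A] Ω :=
    ((IsAlgClosed.lift : q₀.ResidueField →ₐ[FractionRing A] Ω).restrictScalars A).comp
      (IsScalarTower.toAlgHom A Γ q₀.ResidueField)
  let χ : A' ⊗[A] Γ →ₐ[A'] Ω := Algebra.TensorProduct.lift (Algebra.ofId A' Ω) χ₀ fun _ _ => Commute.all _ _
  let F' := algebraMap A A' F
  let L := Localization.Away F'
  have hF' : algebraMap A' Ω F' ≠ 0 := fun h =>
    hF (hinj ((hA'Ω (h.trans (map_zero _).symm)).trans (map_zero _).symm))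
  let lam : L →ₐ[A'] Ω := IsLocalization.liftAlgHom (M := Submonoid.powers F') (f := Algebra.ofId A' Ω)
    (by rintro ⟨_, k, rfl⟩; exact (isUnit_iff_ne_zero.2 (by rw [map_pow]; exact pow_ne_zero _ hF')))
  have hlam : Function.Injective lam := by
    refine (injective_iff_map_eq_zero lam).2 fun x hx => ?_
    obtain ⟨⟨a, s⟩, ha⟩ := IsLocalization.surj (Submonoid.powers F') x
    have h1 : algebraMap A' Ω a = 0 := by
      rw [← lam.commutes, ← ha, map_mul, hx, zero_mul]
    have h2 : a = 0 := hA'Ω (h1.trans (map_zero _).symm)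
    exact (IsLocalization.map_units L s).mul_left_eq_zero.1 (by rw [ha, h2, map_zero])
  have hmem : ∀ γ : Γ, χ₀ γ ∈ (lam.restrictScalars A).range := by
    intro γ
    obtain ⟨k, hk⟩ := hint γ
    let c : integralClosure A' (A' ⊗[A] Γ) :=
      ⟨(1 : A') ⊗ₜ[A] (F ^ k • γ), (hk.map (Algebra.TensorProduct.includeRight : Γ →ₐ[A] A' ⊗[A] Γ)).tower_top⟩
    obtain ⟨s, hs⟩ := mem_range_of_strict (R' := A') (S' := A') hA'Ω (χ.comp (integralClosure A' (A' ⊗[A] Γ)).val) c
    have hs' : χ₀ (F ^ k • γ) = algebraMap A' Ω s := by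
      have h5 : χ ((1 : A') ⊗ₜ[A] (F ^ k • γ)) = algebraMap A' Ω s := hs
      rwa [Algebra.TensorProduct.lift_tmul, map_one, one_mul] at h5
    let ms : Submonoid.powers F' := ⟨F' ^ k, k, rfl⟩
    refine ⟨IsLocalization.mk' L s ms, ?_⟩
    show lam _ = χ₀ γ
    refine mul_right_cancel₀ (pow_ne_zero k hF') ?_
    have h3 : lam (IsLocalization.mk' L s ms) * algebraMap A' Ω F' ^ k = algebraMap A' Ω s := by
      have h6 := congrArg lam (IsLocalization.mk'_spec L s ms)
      rw [map_mul, lam.commutes, lam.commutes] at h6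
      rwa [← map_pow]
    rw [h3, ← hs', map_smul, Algebra.smul_def, map_pow, mul_comm, IsScalarTower.algebraMap_apply A A' Ω]
  exact ⟨(AlgEquiv.ofInjective (lam.restrictScalars A) hlam).symm.toAlgHom.comp (χ₀.codRestrict _ hmem)⟩

/-- A morphism of étale algebras over `A`, integral away from `F`, into a nonzero one has surjective spectrum
map onto a connected spectrum. -/
theorem surjective_comap {A Γ L : Type u} [CommRing A] [CommRing Γ] [CommRing L] [Nontrivial L] [Algebra A Γ]
    [Algebra A L] [Algebra.Etale A Γ] [Algebra.Etale A L] [ConnectedSpace (PrimeSpectrum Γ)] (g : Γ →ₐ[A] L)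
    (F : A) (hF : IsUnit (algebraMap A Γ F)) (hint : ∀ x : L, ∃ k : ℕ, IsIntegral A (F ^ k • x)) :
    Function.Surjective (PrimeSpectrum.comap g.toRingHom) := by
  letI : Algebra Γ L := g.toRingHom.toAlgebra
  haveI : IsScalarTower A Γ L := IsScalarTower.of_algebraMap_eq fun a => (g.commutes a).symm
  haveI : Algebra.Etale Γ L := Algebra.Etale.of_restrictScalars A Γ L
  haveI : Algebra.IsIntegral Γ L := ⟨fun x => by
    obtain ⟨k, hk⟩ := hint x
    obtain ⟨v, hv⟩ := hF.pow k
    have h1 : IsIntegral Γ (F ^ k • x) := hk.tower_top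
    have h2 : x = (↑v⁻¹ : Γ) • (F ^ k • x) := by
      rw [← IsScalarTower.algebraMap_smul Γ (F ^ k) x, map_pow, ← hv, smul_smul, Units.inv_mul, one_smul]
    rw [h2]
    exact h1.smul _⟩
  have hop : IsOpen (Set.range (PrimeSpectrum.comap (algebraMap Γ L))) :=
    (PrimeSpectrum.isOpenMap_comap_of_hasGoingDown_of_finitePresentation (R := Γ) (S := L)).isOpen_range
  have hcl : IsClosed (Set.range (PrimeSpectrum.comap (algebraMap Γ L))) :=
    (PrimeSpectrum.isClosedMap_comap_of_isIntegral _ (algebraMap_isIntegral_iff.2 inferInstance)).isClosed_range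
  exact Set.range_eq_univ.1 (IsClopen.eq_univ ⟨hcl, hop⟩ (Set.range_nonempty _))

theorem dominates {A : Type u} [CommRing A] [IsDomain A] {F : A}
    (V : FEt.Cat ((SGA1.specBasicOpen A F) : Scheme.{u})) [ConnectedSpace V.left]
    (A' : Type u) [CommRing A'] [IsDomain A'] [Algebra A A'] [Module.Finite A A']
    (hinj : Function.Injective (algebraMap A A')) (hF : F ≠ 0)
    (hK : letI := (Localization.awayMap (algebraMap A A') F).toAlgebra
      Algebra.Etale (Localization.Away F) (Localization.Away (algebraMap A A' F)))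
    (g : letI := (sectionsMap V).toAlgebra; Γ(V.left, ⊤) →ₐ[A] Localization.Away (algebraMap A A' F)) :
    ∃ φ : (↑((Spec.map (CommRingCat.ofHom (algebraMap A A'))) ⁻¹ᵁ (SGA1.specBasicOpen A F)) : Scheme.{u}) ⟶ V.left,
      φ ≫ V.hom = (Spec.map (CommRingCat.ofHom (algebraMap A A'))) ∣_ (SGA1.specBasicOpen A F) ∧ Surjective φ := by
  haveI := isAffine_left V
  letI := (sectionsMap V).toAlgebra
  obtain ⟨het, hunit, -⟩ := sections_props V
  haveI : Algebra.Etale A Γ(V.left, ⊤) := het
  haveI : ConnectedSpace (PrimeSpectrum Γ(V.left, ⊤)) :=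
    (Scheme.Hom.homeomorph V.left.isoSpec.hom).surjective.connectedSpace (Scheme.Hom.homeomorph V.left.isoSpec.hom).continuous
  let L := Localization.Away (algebraMap A A' F)
  let U := SGA1.specBasicOpen A F
  let π := Spec.map (CommRingCat.ofHom (algebraMap A A'))
  let U' := π ⁻¹ᵁ U
  let o := Spec.map (CommRingCat.ofHom (algebraMap A' L))
  haveI : IsOpenImmersion o := IsOpenImmersion.of_isLocalization (algebraMap A A' F)
  have hr : Set.range U'.ι = Set.range o := by
    rw [Scheme.Opens.range_ι]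
    exact (PrimeSpectrum.localization_away_comap_range L (algebraMap A A' F)).symm
  let e := IsOpenImmersion.isoOfRangeEq U'.ι o hr
  refine ⟨e.hom ≫ Spec.map (CommRingCat.ofHom g.toRingHom) ≫ V.left.isoSpec.inv, ?_, ?_⟩
  · rw [← cancel_mono U.ι, morphismRestrict_ι, Category.assoc, Category.assoc, Category.assoc, hom_eq_specMap V,
      Iso.inv_hom_id_assoc, ← Spec.map_comp, ← IsOpenImmersion.isoOfRangeEq_hom_fac U'.ι o hr, Category.assoc,
      ← Spec.map_comp, ← CommRingCat.ofHom_comp, ← CommRingCat.ofHom_comp]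
    congr 3
    ext a
    exact (g.commutes a).trans (IsScalarTower.algebraMap_apply A A' L a)
  · letI : Algebra (Localization.Away F) L := (Localization.awayMap (algebraMap A A') F).toAlgebra
    haveI : IsScalarTower A (Localization.Away F) L := IsScalarTower.of_algebraMap_eq fun a => by
      show _ = Localization.awayMap (algebraMap A A') F (algebraMap A (Localization.Away F) a)
      rw [Localization.awayMap, IsLocalization.Away.map, IsLocalization.map_eq, ← IsScalarTower.algebraMap_apply]
    haveI : Algebra.Etale (Localization.Away F) L := hK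
    haveI : Algebra.Etale A (Localization.Away F) := Algebra.Etale.of_isLocalizationAway F
    haveI : Algebra.Etale A L := Algebra.Etale.comp A (Localization.Away F) L
    haveI : Nontrivial L := (IsLocalization.injective L (powers_le_nonZeroDivisors_of_noZeroDivisors
      (fun h => hF (hinj (h.trans (map_zero _).symm))))).nontrivial
    have hintL : ∀ x : L, ∃ k : ℕ, IsIntegral A (F ^ k • x) := fun x => by
      obtain ⟨⟨a, _, k, rfl⟩, ha⟩ := IsLocalization.surj (Submonoid.powers (algebraMap A A' F)) x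
      refine ⟨k, ?_⟩
      rw [Algebra.smul_def, IsScalarTower.algebraMap_apply A A' L, map_pow, mul_comm, ha]
      exact (Algebra.IsIntegral.isIntegral (R := A) a).map (IsScalarTower.toAlgHom A A' L)
    haveI : Surjective (Spec.map (CommRingCat.ofHom g.toRingHom)) := ⟨surjective_comap g F hunit hintL⟩
    infer_instance

end Groth.Agent.AbsAbh
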