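import Groth.Agent.AbsAbh.Radicial
import Groth.Agent.AbsAbh.Closure
import Groth.Agent.AbsAbh.Kummer
import Groth.Agent.S14620
import Groth.Agent.Hensel.HenselizationMore
import Groth.Agent.TameAbh.Dominate

/-!
# Descent of unramifiedness from a radicial Kummer extension
-/

set_option autoImplicit false
set_option backward.isDefEq.respectTransparency false

universe u

open IsLocalRing SGA1
open scoped TensorProduct

namespace Groth.Agent.AbsAbh

theorem radicial_kummer {S : Type u} [CommRing S] {r : ℕ} (t : Fin r → S) (p : ℕ) [Fact p.Prime] (q : Fin r → ℕ)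
    (hq : ∀ i, ∃ k, q i = p ^ k) (x : kummerAlg S t q) :
    ∃ (k : ℕ) (a : S) (w : kummerAlg S t q), x ^ p ^ k = algebraMap S _ a + (p : kummerAlg S t q) * w := by
  classical
  choose k hk using hq
  refine ⟨∑ i, k i, ?_⟩
  set N := ∑ i, k i
  have hx : x ∈ Algebra.adjoin S (Set.range (kt t q)) := by rw [adjoin_kt]; trivial
  induction hx using Algebra.adjoin_induction with
  | mem y hy =>
    obtain ⟨i, rfl⟩ := hy
    obtain ⟨d, hd⟩ : ∃ d, N = k i + d :=
      Nat.exists_eq_add_of_le (Finset.single_le_sum (fun j _ => Nat.zero_le _) (Finset.mem_univ i))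
    refine ⟨t i ^ p ^ d, 0, ?_⟩
    rw [hd, pow_add, pow_mul, ← hk, kt_pow, mul_zero, add_zero, map_pow]
  | algebraMap a => exact ⟨a ^ p ^ N, 0, by rw [mul_zero, add_zero, map_pow]⟩
  | add y z _ _ hy hz =>
    obtain ⟨a, w, hy⟩ := hy
    obtain ⟨b, v, hz⟩ := hz
    obtain ⟨c, hc⟩ := exists_add_pow_prime_pow_eq (Fact.out : p.Prime) y z N
    exact ⟨a + b, w + v + y * z * c, by rw [hc, hy, hz, map_add]; ring⟩
  | mul y z _ _ hy hz =>
    obtain ⟨a, w, hy⟩ := hy
    obtain ⟨b, v, hz⟩ := hz
    exact ⟨a * b, w * algebraMap S _ b + (algebraMap S _ a + (p : kummerAlg S t q) * w) * v, by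
      rw [mul_pow, hy, hz, map_mul]; ring⟩

/-- The strict henselisation of a regular local ring, with the properties needed below. -/
theorem exists_sh (R : Type u) [CommRing R] [IsRegularLocalRing R] :
    ∃ (S : Type u) (_ : CommRing S) (_ : IsDomain S) (_ : IsRegularLocalRing S) (_ : Algebra R S)
      (_ : IsLocalHom (algebraMap R S)) (_ : Module.FaithfullyFlat R S),
      HenselianLocalRing S ∧ IsSepClosed (ResidueField S) ∧
        (maximalIdeal R).map (algebraMap R S) = maximalIdeal S ∧ ringKrullDim R ≤ ringKrullDim S := by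
  obtain ⟨hloc, hSh⟩ := Hensel.exists_strictHenselization R
  haveI := hloc
  haveI := hSh
  haveI := (_root_.Hensel.IsStrictHenselization.isSepClosure :
    IsSepClosure (ResidueField R) (ResidueField (Hensel.Env R (SeparableClosure (ResidueField R)))))
  haveI hreg : IsRegularLocalRing (Hensel.Env R (SeparableClosure (ResidueField R))) :=
    (Hensel.strictHenselization_isRegularLocalRing_iff R (Hensel.Env R (SeparableClosure (ResidueField R)))).2 inferInstance
  exact ⟨_, inferInstance, RegLoc.isDomain _, hreg, inferInstance, hloc, Hensel.strictHenselization_faithfullyFlat R _,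
    _root_.Hensel.IsStrictHenselization.henselian (R := R), IsSepClosure.sep_closed (ResidueField R),
    Hensel.strictHenselization_map_maximalIdeal R _, (Hensel.strictHenselization_ringKrullDim R _).ge⟩

variable {R : Type u} [CommRing R] [IsDomain R] [IsRegularLocalRing R] (p : ℕ) [Fact p.Prime]
  (K : Type u) [Field K] [Algebra R K] [IsFractionRing R K] (B : Type u) [CommRing B] [Algebra R B]
  (R' S S' Ω : Type u) [CommRing R'] [Algebra R R'] [CommRing S] [IsDomain S] [IsNoetherianRing S] [Algebra R S]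
  [Module.FaithfullyFlat R S] [CommRing S'] [IsDomain S'] [IsIntegrallyClosed S'] [HenselianLocalRing S']
  [IsSepClosed (ResidueField S')] [Algebra S S'] [Algebra.IsIntegral S S'] [Algebra R' S'] [Algebra R S']
  [IsScalarTower R S S'] [IsScalarTower R R' S']
  [Field Ω] [Algebra S' Ω] [Algebra S Ω] [IsScalarTower S S' Ω]
  [Algebra R Ω] [IsScalarTower R S Ω] [Algebra R' Ω] [IsScalarTower R' S' Ω] [IsScalarTower R R' Ω]

set_option maxHeartbeats 2000000 in
/-- If the base change to a radicial extension extends as an étale algebra, then every point of `B` with values in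
an algebraic closure is rational over the strictly henselian ring. -/
theorem points_rational [Algebra.Etale R B] (K' : Type u) [Field K'] [Algebra S' K'] [IsFractionRing S' K']
    [Algebra K' Ω] [IsScalarTower S' K' Ω] (hp : (p : R) ≠ 0) (hpS : ¬ IsUnit (p : S))
    (hSS' : Function.Injective (algebraMap S S'))
    (hrad : ∀ x : S', ∃ (k : ℕ) (a : S) (w : S'), x ^ p ^ k = algebraMap S S' a + (p : S') * w)
    (F : R) (hFB : IsUnit (algebraMap R B F))
    (hint : ∀ b : B, ∃ k : ℕ, IsIntegral R (F ^ k • b))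
    (H1 : ∃ (C : Type u) (_ : CommRing C) (_ : Algebra R' C) (_ : Algebra.Etale R' C) (_ : Module.Finite R' C)
      (j : C →ₐ[R'] R' ⊗[R] B), ∀ b : B, ∃ (k : ℕ) (c : C), j c = (1 : R') ⊗ₜ[R] (F ^ k • b))
    (H2 : ∀ (P : Ideal R) [P.IsPrime], P.height = 1 → (p : R) ∈ P → F ∈ P →
      ∀ (S : Type u) [CommRing S] [IsDomain S] [IsDiscreteValuationRing S] [Algebra R S] [IsLocalization.AtPrime S P]
        [Algebra S K] [IsScalarTower R S K] [IsFractionRing S K], UnramFactors S K (K ⊗[R] B))
    (ψ : B →ₐ[R] Ω) (b : B) : ∃ a d : S, d ≠ 0 ∧ ψ b * algebraMap S Ω d = algebraMap S Ω a := by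
  classical
  obtain ⟨C₀, _, _, _, _, j₀, hj₀⟩ := H1
  have hp0 := hp
  have hS'Ω : Function.Injective (algebraMap S' Ω) := by
    rw [IsScalarTower.algebraMap_eq S' K' Ω]
    exact (algebraMap K' Ω).injective.comp (IsFractionRing.injective S' K')
  have hSΩ : Function.Injective (algebraMap S Ω) := by
    rw [IsScalarTower.algebraMap_eq S S' Ω]; exact hS'Ω.comp hSS'
  have hRΩ : Function.Injective (algebraMap R Ω) := by
    rw [IsScalarTower.algebraMap_eq R S Ω]; exact hSΩ.comp (FaithfulSMul.algebraMap_injective R S)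
  have hRS : ∀ a, algebraMap S' Ω (algebraMap S S' (algebraMap R S a)) = algebraMap R Ω a := fun a => by
    rw [← IsScalarTower.algebraMap_apply S S' Ω, ← IsScalarTower.algebraMap_apply R S Ω]
  -- points take values in the fraction field of `S'`
  let ψ' : R' ⊗[R] B →ₐ[R'] Ω := Algebra.TensorProduct.lift (Algebra.ofId R' Ω) ψ fun _ _ => Commute.all _ _
  have hψF : algebraMap R Ω F ≠ 0 := fun h => not_isUnit_zero (h ▸ ψ.commutes F ▸ hFB.map ψ : IsUnit (0 : Ω))
  have hF' : algebraMap S' K' (algebraMap S S' (algebraMap R S F)) ≠ 0 := fun h => hψF (by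
    rw [← hRS, IsScalarTower.algebraMap_apply S' K' Ω, h, map_zero])
  have hB : ∀ b, ∃ z : K', ψ b = algebraMap K' Ω z := by
    intro b
    obtain ⟨k, c₀, hc₀⟩ := hj₀ b
    obtain ⟨s, hs⟩ := mem_range_of_strict hS'Ω (ψ'.comp j₀) c₀
    rw [AlgHom.comp_apply, hc₀] at hs
    refine ⟨algebraMap S' K' s / (algebraMap S' K' (algebraMap S S' (algebraMap R S F))) ^ k, ?_⟩
    rw [map_div₀, map_pow, ← IsScalarTower.algebraMap_apply, ← IsScalarTower.algebraMap_apply]
    rw [hRS, eq_div_iff (pow_ne_zero _ hψF), ← hs]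
    show ψ b * (algebraMap R Ω F) ^ k = ψ' ((1 : R') ⊗ₜ[R] (F ^ k • b))
    simp only [ψ', Algebra.TensorProduct.lift_tmul, map_one, one_mul, Algebra.smul_def, map_mul, map_pow,
      AlgHom.commutes]
    rw [mul_comm]
  -- a height one prime over `p`
  obtain ⟨PS, hPS⟩ := Ideal.nonempty_minimalPrimes
    (fun h => hpS (Ideal.span_singleton_eq_top.1 h) : Ideal.span {(p : S)} ≠ ⊤)
  haveI : PS.IsPrime := hPS.1.1
  have hpPS : (p : S) ∈ PS := hPS.1.2 (Ideal.subset_span rfl)
  have hPS1 : PS.height ≤ 1 := Ideal.height_le_one_of_isPrincipal_of_mem_minimalPrimes _ _ hPS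
  set P := PS.comap (algebraMap R S)
  haveI : P.IsPrime := Ideal.IsPrime.comap _
  have hpP : (p : R) ∈ P := by
    show algebraMap R S (p : R) ∈ PS
    rw [map_natCast]; exact hpPS
  have hP1 : P.height = 1 := by
    haveI : PS.LiesOver P := ⟨rfl⟩
    refine le_antisymm ?_ (Order.one_le_iff_pos.2 (pos_iff_ne_zero.2 fun h0 => hp0 ?_))
    · refine le_trans ?_ hPS1
      rw [Ideal.height_eq_height_add_of_liesOver_of_hasGoingDown P PS]
      exact le_self_add
    · have : P = ⊥ := by
        by_contra hne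
        haveI : (⊥ : Ideal R).IsPrime := Ideal.isPrime_bot
        have h1 := Ideal.height_add_one_le_of_lt_of_isPrime (bot_lt_iff_ne_bot.2 hne : (⊥ : Ideal R) < P)
        rw [h0] at h1
        exact absurd h1 (by simp)
      rwa [this, Ideal.mem_bot] at hpP
  haveI := dvr_of_height_one R P hP1
  let R₁ := Localization.AtPrime P
  let S₁ := Localization.AtPrime PS
  have huS : ∀ y : PS.primeCompl, IsUnit (algebraMap S Ω y) := fun y =>
    isUnit_iff_ne_zero.2 fun h => y.2 (by rw [hSΩ (h.trans (map_zero _).symm)]; exact PS.zero_mem)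
  letI : Algebra S₁ Ω := (IsLocalization.lift (S := S₁) huS).toAlgebra
  haveI : IsScalarTower S S₁ Ω := IsScalarTower.of_algebraMap_eq fun a => (IsLocalization.lift_eq huS a).symm
  have huR : ∀ y : P.primeCompl, IsUnit (((algebraMap S S₁).comp (algebraMap R S)) y) := fun y =>
    IsLocalization.map_units S₁ (⟨algebraMap R S y, y.2⟩ : PS.primeCompl)
  letI : Algebra R₁ S₁ := (IsLocalization.lift (S := R₁) huR).toAlgebra
  letI : Algebra R₁ Ω := ((algebraMap S₁ Ω).comp (algebraMap R₁ S₁)).toAlgebra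
  haveI : IsScalarTower R₁ S₁ Ω := IsScalarTower.of_algebraMap_eq fun _ => rfl
  haveI : IsScalarTower R R₁ Ω := IsScalarTower.of_algebraMap_eq fun a => by
    show algebraMap R Ω a = algebraMap S₁ Ω (algebraMap R₁ S₁ (algebraMap R R₁ a))
    rw [IsScalarTower.algebraMap_apply R S Ω, show algebraMap R₁ S₁ (algebraMap R R₁ a) = algebraMap S S₁ (algebraMap R S a) from IsLocalization.lift_eq huR a,
      ← IsScalarTower.algebraMap_apply S S₁ Ω]
  have rational : ∀ (C : Type u) [CommRing C] [Algebra R₁ C] [Algebra.FormallyUnramified R₁ C] [Module.Finite R₁ C]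
      (χ : C →ₐ[R₁] Ω), (∀ c, ∃ z : K', χ c = algebraMap K' Ω z) → ∀ c, ∃ x : S₁, χ c = algebraMap S₁ Ω x := by
    intro C _ _ _ _ χ hχ c
    let χ₁ : S₁ ⊗[R₁] C →ₐ[S₁] Ω := Algebra.TensorProduct.lift (Algebra.ofId S₁ Ω) χ fun _ _ => Commute.all _ _
    obtain ⟨x, hx⟩ := mem_range_of_radicial hSS' PS p hpPS (hrad) K'
      (fun a => by rw [← IsScalarTower.algebraMap_apply, ← IsScalarTower.algebraMap_apply]) χ₁ (fun y => by
        induction y using TensorProduct.induction_on with
        | zero => exact ⟨0, by rw [map_zero, map_zero]⟩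
        | add y z hy hz =>
          obtain ⟨a, ha⟩ := hy
          obtain ⟨b, hb⟩ := hz
          exact ⟨a + b, by rw [map_add, map_add, ha, hb]⟩
        | tmul x c =>
          obtain ⟨z, hz⟩ := hχ c
          obtain ⟨⟨a, d⟩, had⟩ := IsLocalization.surj PS.primeCompl x
          refine ⟨algebraMap S' K' (algebraMap S S' a) / algebraMap S' K' (algebraMap S S' d) * z, ?_⟩
          rw [map_mul, map_div₀, ← IsScalarTower.algebraMap_apply S' K' Ω, ← IsScalarTower.algebraMap_apply S' K' Ω, ← hz]
          simp only [χ₁, Algebra.TensorProduct.lift_tmul, Algebra.ofId_apply]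
          congr 1
          rw [← IsScalarTower.algebraMap_apply S S' Ω, ← IsScalarTower.algebraMap_apply S S' Ω]
          show algebraMap S₁ Ω x = algebraMap S Ω a / algebraMap S Ω d
          rw [eq_div_iff ((huS d).ne_zero), IsScalarTower.algebraMap_apply S S₁ Ω,
            IsScalarTower.algebraMap_apply S S₁ Ω a, ← map_mul, had])
      ((1 : S₁) ⊗ₜ c)
    exact ⟨x, by simpa [χ₁] using hx⟩
  -- the elements of `B` after clearing a denominator
  suffices hloc1 : ∃ (d : R), algebraMap R Ω d ≠ 0 ∧ ∃ x : S₁, ψ b * algebraMap R Ω d = algebraMap S₁ Ω x by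
    obtain ⟨d, hd, x, hx⟩ := hloc1
    obtain ⟨⟨a, s⟩, hs⟩ := IsLocalization.surj PS.primeCompl x
    refine ⟨a, algebraMap R S d * s, mul_ne_zero (fun h => hd ?_) (fun h => s.2 (by rw [h]; exact PS.zero_mem)), ?_⟩
    · rw [IsScalarTower.algebraMap_apply R S Ω, h, map_zero]
    · rw [map_mul, ← mul_assoc, ← IsScalarTower.algebraMap_apply R S Ω, hx, IsScalarTower.algebraMap_apply S S₁ Ω,
        ← map_mul, hs, ← IsScalarTower.algebraMap_apply S S₁ Ω]
  by_cases hFP : F ∈ P
  · have hu : ∀ y : P.primeCompl, IsUnit (algebraMap R K y) := fun y =>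
      isUnit_iff_ne_zero.2 fun h0 => y.2 (by
        rw [show (y : R) = 0 from IsFractionRing.injective R K (h0.trans (map_zero _).symm)]
        exact P.zero_mem)
    letI : Algebra R₁ K := (IsLocalization.lift (S := R₁) hu).toAlgebra
    haveI : IsScalarTower R R₁ K := IsScalarTower.of_algebraMap_eq fun x => (IsLocalization.lift_eq hu x).symm
    haveI : IsFractionRing R₁ K := IsFractionRing.isFractionRing_of_isDomain_of_isLocalization P.primeCompl R₁ K
    letI : Algebra K Ω := (IsFractionRing.lift hRΩ).toAlgebra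
    haveI : IsScalarTower R K Ω := IsScalarTower.of_algebraMap_eq fun x => (IsFractionRing.lift_algebraMap hRΩ x).symm
    obtain ⟨het, hfin⟩ := etale_integralClosure R₁ K (K ⊗[R] B) (H2 P hP1 hpP hFP R₁)
    haveI := het
    haveI := hfin
    let ψK : K ⊗[R] B →ₐ[K] Ω := Algebra.TensorProduct.lift (Algebra.ofId K Ω) ψ fun _ _ => Commute.all _ _
    haveI : IsScalarTower R₁ K Ω := IsScalarTower.of_algebraMap_eq' (by
      refine IsLocalization.ringHom_ext P.primeCompl (RingHom.ext fun a => ?_)
      show algebraMap R₁ Ω (algebraMap R R₁ a) = algebraMap K Ω (algebraMap R₁ K (algebraMap R R₁ a))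
      rw [← IsScalarTower.algebraMap_apply R R₁ Ω, ← IsScalarTower.algebraMap_apply R R₁ K,
        ← IsScalarTower.algebraMap_apply R K Ω])
    let χ : integralClosure R₁ (K ⊗[R] B) →ₐ[R₁] Ω := (ψK.restrictScalars R₁).comp (integralClosure R₁ (K ⊗[R] B)).val
    obtain ⟨k, hk⟩ := hint b
    have hc : IsIntegral R₁ ((1 : K) ⊗ₜ[R] (F ^ k • b)) :=
      (hk.map (Algebra.TensorProduct.includeRight : B →ₐ[R] K ⊗[R] B)).tower_top
    have hZ : ∀ c, ∃ z : K', χ c = algebraMap K' Ω z := fun c => by
      show ∃ z : K', ψK (c : K ⊗[R] B) = algebraMap K' Ω z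
      induction (c : K ⊗[R] B) using TensorProduct.induction_on with
      | zero => exact ⟨0, by rw [map_zero, map_zero]⟩
      | add y z hy hz =>
        obtain ⟨a, ha⟩ := hy
        obtain ⟨b, hb⟩ := hz
        exact ⟨a + b, by rw [map_add, map_add, ha, hb]⟩
      | tmul x b =>
        obtain ⟨z, hz⟩ := hB b
        obtain ⟨n, d, hd, rfl⟩ := IsFractionRing.div_surjective (A := R) x
        refine ⟨algebraMap S' K' (algebraMap S S' (algebraMap R S n)) /
          algebraMap S' K' (algebraMap S S' (algebraMap R S d)) * z, ?_⟩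
        rw [map_mul, map_div₀, ← IsScalarTower.algebraMap_apply S' K' Ω, ← IsScalarTower.algebraMap_apply S' K' Ω, ← hz]
        simp only [ψK, Algebra.TensorProduct.lift_tmul, Algebra.ofId_apply, map_div₀,
          ← IsScalarTower.algebraMap_apply R K Ω]
        rw [hRS, hRS]
    obtain ⟨x, hx⟩ := rational _ χ hZ ⟨_, hc⟩
    refine ⟨F ^ k, by rw [map_pow]; exact pow_ne_zero _ hψF, x, ?_⟩
    rw [← hx]
    show ψ b * algebraMap R Ω (F ^ k) = ψK ((1 : K) ⊗ₜ[R] (F ^ k • b))
    simp only [ψK, Algebra.TensorProduct.lift_tmul, map_one, one_mul, map_smul, Algebra.smul_def]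
    rw [mul_comm, map_mul, ψ.commutes]
  · let ψ₁ : R₁ ⊗[R] B →ₐ[R₁] Ω := Algebra.TensorProduct.lift (Algebra.ofId R₁ Ω) ψ fun _ _ => Commute.all _ _
    obtain ⟨u, hu⟩ := IsLocalization.map_units R₁ (⟨F, hFP⟩ : P.primeCompl)
    haveI : Algebra.FiniteType R₁ (R₁ ⊗[R] B) := inferInstance
    haveI : Algebra.IsIntegral R₁ (R₁ ⊗[R] B) := ⟨fun y => by
      induction y using TensorProduct.induction_on with
      | zero => exact isIntegral_zero
      | add y z hy hz => exact hy.add hz
      | tmul x b =>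
        obtain ⟨k, hk⟩ := hint b
        have h1 : IsIntegral R₁ ((1 : R₁) ⊗ₜ[R] (F ^ k • b)) :=
          (hk.map (Algebra.TensorProduct.includeRight : B →ₐ[R] R₁ ⊗[R] B)).tower_top
        have e : x ⊗ₜ[R] b = (x * (↑u⁻¹ : R₁) ^ k) • ((1 : R₁) ⊗ₜ[R] (F ^ k • b)) := by
          rw [← TensorProduct.smul_tmul, TensorProduct.smul_tmul', smul_eq_mul, Algebra.smul_def, map_pow, ← hu,
            mul_one, mul_assoc, ← mul_pow, Units.inv_mul, one_pow, mul_one]
        rw [e]
        exact h1.smul _⟩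
    haveI : Module.Finite R₁ (R₁ ⊗[R] B) := Algebra.IsIntegral.finite
    have hZ : ∀ c, ∃ z : K', ψ₁ c = algebraMap K' Ω z := fun c => by
      induction c using TensorProduct.induction_on with
      | zero => exact ⟨0, by rw [map_zero, map_zero]⟩
      | add y z hy hz =>
        obtain ⟨a, ha⟩ := hy
        obtain ⟨b, hb⟩ := hz
        exact ⟨a + b, by rw [map_add, map_add, ha, hb]⟩
      | tmul x b =>
        obtain ⟨z, hz⟩ := hB b
        obtain ⟨⟨n, d⟩, hnd⟩ := IsLocalization.surj P.primeCompl x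
        refine ⟨algebraMap S' K' (algebraMap S S' (algebraMap R S n)) /
          algebraMap S' K' (algebraMap S S' (algebraMap R S d)) * z, ?_⟩
        rw [map_mul, map_div₀, ← IsScalarTower.algebraMap_apply S' K' Ω, ← IsScalarTower.algebraMap_apply S' K' Ω, ← hz]
        simp only [ψ₁, Algebra.TensorProduct.lift_tmul, Algebra.ofId_apply]
        congr 1
        rw [hRS, hRS]
        have hd0 : algebraMap R Ω (d : R) ≠ 0 := fun h => d.2 (by
          rw [hRΩ (h.trans (map_zero _).symm)]; exact P.zero_mem)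
        rw [eq_div_iff hd0, IsScalarTower.algebraMap_apply R R₁ Ω, IsScalarTower.algebraMap_apply R R₁ Ω n,
          ← map_mul, hnd]
    obtain ⟨x, hx⟩ := rational _ ψ₁ hZ ((1 : R₁) ⊗ₜ b)
    exact ⟨1, by rw [map_one]; exact one_ne_zero, x, by rw [map_one, mul_one, ← hx]; simp [ψ₁]⟩

end Groth.Agent.AbsAbh
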