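import Mathlib
import Groth.Prelude.Def_EtRam
import Groth.Agent.TameAbh.Dominate

/-!
# Integral closures of discrete valuation rings in unramified extensions are étale
-/

set_option autoImplicit false
set_option backward.isDefEq.respectTransparency false

universe u

open IsLocalRing

namespace Groth.Agent.AbsAbh

variable (S K : Type u) [CommRing S] [IsDomain S] [IsDiscreteValuationRing S] [Field K] [Algebra S K]
  [IsFractionRing S K]

theorem etale_integralClosure_field (M : Type u) [Field M] [Algebra K M] [Algebra S M] [IsScalarTower S K M]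
    [FiniteDimensional K M] [Algebra.IsSeparable K M] (h : EtRam.IsUnramifiedExt S (algebraMap S M)) :
    Algebra.Etale S (integralClosure S M) ∧ Module.Finite S (integralClosure S M) := by
  haveI : Module.Finite S (integralClosure S M) := IsIntegralClosure.finite S K M (integralClosure S M)
  refine ⟨?_, inferInstance⟩
  set C := integralClosure S M
  haveI : IsDedekindDomain C := IsIntegralClosure.isDedekindDomain S K M C
  haveI : IsFractionRing C M := IsIntegralClosure.isFractionRing_of_finite_extension S K M C
  haveI : Module.IsTorsionFree S M := Module.IsTorsionFree.trans_faithfulSMul S K M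
  haveI : Module.Flat S C := inferInstance
  haveI : Algebra.FinitePresentation S C := Algebra.FinitePresentation.of_finiteType.1 inferInstance
  suffices Algebra.FormallyUnramified S C from Algebra.Etale.of_formallyUnramified_of_flat
  refine Algebra.formallyUnramified_iff_forall.2 fun q => ?_
  set Q := q.asIdeal
  show Algebra.FormallyUnramified S (Localization.AtPrime Q)
  let L := Localization.AtPrime Q
  have hu : ∀ y : Q.primeCompl, IsUnit (algebraMap C M y) := fun y =>
    isUnit_iff_ne_zero.2 fun h0 => y.2 (by
      rw [show (y : C) = 0 from IsFractionRing.injective C M (h0.trans (map_zero _).symm)]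
      exact Q.zero_mem)
  let i : L →+* M := IsLocalization.lift hu
  letI : Algebra L M := i.toAlgebra
  haveI : IsScalarTower C L M := IsScalarTower.of_algebraMap_eq fun c => (IsLocalization.lift_eq hu c).symm
  haveI : IsScalarTower S L M := IsScalarTower.of_algebraMap_eq fun a => by
    rw [IsScalarTower.algebraMap_apply S C L, ← IsScalarTower.algebraMap_apply C L M,
      ← IsScalarTower.algebraMap_apply S C M]
  haveI : IsFractionRing L M := IsFractionRing.isFractionRing_of_isDomain_of_isLocalization Q.primeCompl L M
  have hQm : Q ≠ ⊥ → Q.comap (algebraMap S C) = maximalIdeal S := fun hQ => by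
    haveI : (Q.comap (algebraMap S C)).IsPrime := Ideal.IsPrime.comap _
    exact eq_maximalIdeal ((inferInstance : (Q.comap (algebraMap S C)).IsPrime).isMaximal
      (fun h0 => hQ (Ideal.eq_bot_of_comap_eq_bot h0)))
  rcases eq_or_ne Q ⊥ with hQ | hQ
  · have hS : Q.primeCompl = nonZeroDivisors C := by
      ext x
      rw [mem_nonZeroDivisors_iff_ne_zero]
      show x ∉ Q ↔ x ≠ 0
      rw [hQ, Ideal.mem_bot]
    haveI : IsLocalization Q.primeCompl M := by rw [hS]; infer_instance
    haveI : Algebra.FormallyUnramified S K := Algebra.FormallyUnramified.of_isLocalization (nonZeroDivisors S)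
    haveI : Algebra.FormallyUnramified K M := Algebra.FormallyUnramified.of_isSeparable K M
    haveI : Algebra.FormallyUnramified S M := Algebra.FormallyUnramified.comp S K M
    exact Algebra.FormallyUnramified.of_equiv ((IsLocalization.algEquiv Q.primeCompl M L).restrictScalars S)
  haveI : IsDomain L := IsLocalization.isDomain_localization Q.primeCompl_le_nonZeroDivisors
  haveI : IsDiscreteValuationRing L := IsLocalization.AtPrime.isDiscreteValuationRing_of_dedekind_domain C hQ L
  let W : ValuationSubring M :=
    { i.range with
      mem_or_inv_mem' := fun x => by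
        rcases ValuationRing.isInteger_or_isInteger L x with ⟨l, hl⟩ | ⟨l, hl⟩
        · exact Or.inl ⟨l, hl⟩
        · exact Or.inr ⟨l, hl⟩ }
  have hinj : Function.Injective i := IsFractionRing.injective L M
  let e : L ≃+* W := RingEquiv.ofBijective (RingHom.codRestrict i W.toSubring fun l => ⟨l, rfl⟩)
    ⟨fun a b hab => hinj (congrArg Subtype.val hab), fun w => by
      obtain ⟨l, hl⟩ := w.2
      exact ⟨l, Subtype.ext hl⟩⟩
  have hgm : ∀ a, algebraMap S M a = i (algebraMap S L a) := fun a => IsScalarTower.algebraMap_apply S L M a
  haveI hlL : IsLocalHom (algebraMap S L) := ((IsLocalRing.local_hom_TFAE _).out 4 0).1 (by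
    rw [IsScalarTower.algebraMap_eq S C L, ← Ideal.comap_comap,
      show (maximalIdeal L).comap (algebraMap C L) = Q from IsLocalization.AtPrime.comap_maximalIdeal L Q]
    exact hQm hQ)
  have hdom : EtRam.Dominates S (algebraMap S M) W := by
    refine ⟨fun a => ⟨_, (hgm a).symm⟩, fun a ha => ?_⟩
    have hn : ¬ IsUnit (e (algebraMap S L a)) := fun hu' =>
      ha (IsUnit.of_map (algebraMap S L) a ((isUnit_map_iff e _).1 hu'))
    have := (W.valuation_lt_one_iff (e (algebraMap S L a))).1
      ((IsLocalRing.mem_maximalIdeal _).2 hn)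
    rwa [show ((e (algebraMap S L a) : W) : M) = algebraMap S M a from (hgm a).symm] at this
  letI : Algebra S W := (RingHom.codRestrict (algebraMap S M) W hdom.1).toAlgebra
  let eA : L ≃ₐ[S] W := AlgEquiv.ofRingEquiv (f := e) fun a => Subtype.ext (hgm a).symm
  haveI hlW : IsLocalHom (algebraMap S W) := ⟨fun a ha => by
    rw [← eA.commutes] at ha
    exact IsUnit.of_map (algebraMap S L) a ((isUnit_map_iff eA _).1 ha)⟩
  haveI : Algebra.FiniteType S C := Module.Finite.finiteType C
  haveI : Algebra.EssFiniteType C L := Algebra.EssFiniteType.of_isLocalization L Q.primeCompl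
  haveI : Algebra.EssFiniteType S L := Algebra.EssFiniteType.comp S C L
  haveI : Algebra.EssFiniteType S W := Algebra.EssFiniteType.of_surjective eA.toAlgHom eA.surjective
  obtain ⟨hw, hsep⟩ := h W hdom
  haveI := hsep
  haveI : Algebra.FormallyUnramified S W := Algebra.FormallyUnramified.iff_map_maximalIdeal_eq.2 ⟨hsep, hw⟩
  exact Algebra.FormallyUnramified.of_equiv eA.symm

/-- The unramifiedness condition on all factors of an étale algebra. -/
def UnramFactors (E : Type u) [CommRing E] [Algebra K E] : Prop :=
  ∀ (M : Type u) [Field M] [Algebra K M] [FiniteDimensional K M] [Algebra.IsSeparable K M] (φ : E →ₐ[K] M),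
    Function.Surjective φ → EtRam.IsUnramifiedExt S ((algebraMap K M).comp (algebraMap S K))

theorem etale_integralClosure (E : Type u) [CommRing E] [Algebra K E] [Algebra S E] [IsScalarTower S K E]
    [Algebra.Etale K E] (h : UnramFactors S K E) :
    Algebra.Etale S (integralClosure S E) ∧ Module.Finite S (integralClosure S E) := by
  classical
  obtain ⟨I, hI, Ai, _, _, e, hAi⟩ := (Algebra.Etale.iff_exists_algEquiv_prod K E).1 inferInstance
  haveI := Fintype.ofFinite I
  letI : ∀ i, Algebra S (Ai i) := fun i => ((algebraMap K (Ai i)).comp (algebraMap S K)).toAlgebra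
  haveI : ∀ i, IsScalarTower S K (Ai i) := fun i => IsScalarTower.of_algebraMap_eq fun _ => rfl
  haveI := fun i => (hAi i).1
  haveI := fun i => (hAi i).2
  have hi : ∀ i, Algebra.Etale S (integralClosure S (Ai i)) ∧ Module.Finite S (integralClosure S (Ai i)) :=
    fun i => etale_integralClosure_field S K (Ai i)
      (h (Ai i) ((Pi.evalAlgHom K Ai i).comp e.toAlgHom)
        ((Function.surjective_eval i).comp e.surjective))
  haveI := fun i => (hi i).1
  haveI := fun i => (hi i).2
  let eS : E ≃ₐ[S] (∀ i, Ai i) := e.restrictScalars S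
  let f : integralClosure S E →ₐ[S] (∀ i, integralClosure S (Ai i)) := Pi.algHom S _ fun i =>
    (((Pi.evalAlgHom S Ai i).comp eS.toAlgHom).comp (integralClosure S E).val).codRestrict _ fun x =>
      x.2.map ((Pi.evalAlgHom S Ai i).comp eS.toAlgHom)
  have hf : Function.Bijective f := by
    refine ⟨fun x y hxy => Subtype.ext (eS.injective (funext fun i => congrArg Subtype.val (congrFun hxy i))),
      fun y => ⟨⟨eS.symm fun i => (y i : Ai i), ?_⟩, funext fun i => Subtype.ext ?_⟩⟩
    · refine IsIntegral.map eS.symm.toAlgHom ?_
      have : (fun i => (y i : Ai i)) = ∑ i, Pi.single i (y i : Ai i) := (Finset.univ_sum_single _).symm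
      rw [this]
      refine IsIntegral.sum _ fun i _ => ?_
      obtain ⟨p, hp, hpy⟩ := (y i).2
      refine ⟨Polynomial.X * p, Polynomial.monic_X.mul hp, ?_⟩
      rw [Polynomial.eval₂_mul, Polynomial.eval₂_X]
      funext j
      rw [Pi.mul_apply, Pi.zero_apply]
      rcases eq_or_ne j i with rfl | hj
      · rw [show Polynomial.eval₂ (algebraMap S (∀ i, Ai i)) (Pi.single j (y j : Ai j)) p j =
          Pi.evalRingHom Ai j (Polynomial.eval₂ (algebraMap S (∀ i, Ai i)) (Pi.single j (y j : Ai j)) p) from rfl,
          Polynomial.hom_eval₂]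
        simp only [Pi.evalRingHom_apply, Pi.single_eq_same]
        rw [show (Pi.evalRingHom Ai j).comp (algebraMap S (∀ i, Ai i)) = algebraMap S (Ai j) from rfl, hpy, mul_zero]
      · rw [Pi.single_eq_of_ne hj, zero_mul]
    · exact congrFun (eS.apply_symm_apply fun i => (y i : Ai i)) i
  let ef := (AlgEquiv.ofBijective f hf).symm
  haveI : Module.Finite S (∀ i, integralClosure S (Ai i)) := inferInstance
  refine ⟨?_, Module.Finite.equiv ef.toLinearEquiv⟩
  haveI : Algebra.FinitePresentation S (∀ i, integralClosure S (Ai i)) :=
    Algebra.FinitePresentation.of_finiteType.1 (Module.Finite.finiteType _)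
  haveI : Algebra.Etale S (∀ i, integralClosure S (Ai i)) := ⟨inferInstance, inferInstance⟩
  exact Algebra.Etale.of_equiv ef

end Groth.Agent.AbsAbh
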