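import Groth.Agent.AbsAbh.Closure
import Groth.Agent.AbsAbh.Kummer
import Groth.Agent.TameAbh.Dominate
import Groth.Agent.TameAbh.KummerTame

/-!
# Unramifiedness at a parameter from rationality of points over the strict henselisation
-/

set_option autoImplicit false
set_option backward.isDefEq.respectTransparency false

universe u

open IsLocalRing
open scoped TensorProduct

namespace Groth.Agent.AbsAbh

theorem charZero_residue {R : Type u} [CommRing R] [IsLocalRing R] (p : ℕ) [hp : Fact p.Prime]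
    (hpm : (p : R) ∈ maximalIdeal R) (P : Ideal R) [P.IsPrime] (hpP : (p : R) ∉ P) (R₁ : Type u) [CommRing R₁]
    [IsLocalRing R₁] [Algebra R R₁] [IsLocalization.AtPrime R₁ P] : CharZero (ResidueField R₁) := by
  obtain ⟨c, hc⟩ := CharP.exists (ResidueField R₁)
  rcases CharP.char_is_prime_or_zero (ResidueField R₁) c with hcp | hc0
  swap
  · subst hc0
    exact CharP.charP_to_charZero _
  exfalso
  have h1 : algebraMap R R₁ (c : R) ∈ maximalIdeal R₁ := by
    rw [map_natCast, ← residue_eq_zero_iff, map_natCast]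
    exact CharP.cast_eq_zero _ c
  have hcP : (c : R) ∈ P := (IsLocalization.AtPrime.to_map_mem_maximal_iff R₁ P _).1 h1
  have hcm : (c : R) ∈ maximalIdeal R := le_maximalIdeal (Ideal.IsPrime.ne_top ‹_›) hcP
  obtain ⟨d, hd⟩ := CharP.exists (ResidueField R)
  have hdp : d ∣ p := (CharP.cast_eq_zero_iff _ d p).1 (by rw [← map_natCast (residue R), residue_eq_zero_iff]; exact hpm)
  have hdc : d ∣ c := (CharP.cast_eq_zero_iff _ d c).1 (by rw [← map_natCast (residue R), residue_eq_zero_iff]; exact hcm)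
  haveI := hd
  rcases (Nat.dvd_prime hp.out).1 hdp with h | h
  · subst h
    exact absurd (CharP.cast_eq_zero (ResidueField R) 1) (by rw [Nat.cast_one]; exact one_ne_zero)
  · subst h
    rw [(Nat.prime_dvd_prime_iff_eq hp.out hcp).1 hdc] at hpP
    exact hpP hcP

/-- A common overring of two local extensions of a discrete valuation ring, with a prime over both closed points. -/
theorem exists_common (R₁ S₁ W : Type u) [CommRing R₁] [IsDomain R₁] [IsPrincipalIdealRing R₁] [IsLocalRing R₁]
    [CommRing S₁] [IsLocalRing S₁] [Algebra R₁ S₁] [IsLocalHom (algebraMap R₁ S₁)] [CommRing W] [IsLocalRing W]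
    [Algebra R₁ W] [IsLocalHom (algebraMap R₁ W)] [Module.Flat R₁ W] :
    ∃ (T : Type u) (_ : CommRing T) (_ : Algebra S₁ T) (inW : W →+* T) (Q : Ideal T),
      Q.IsPrime ∧ (∀ w ∈ maximalIdeal W, inW w ∈ Q) ∧
        (∀ a, algebraMap S₁ T (algebraMap R₁ S₁ a) = inW (algebraMap R₁ W a)) ∧
        Subring.closure (Set.range (algebraMap S₁ T) ∪ Set.range inW) = ⊤ ∧
        ∀ s : S₁, s ∈ nonZeroDivisors S₁ → algebraMap S₁ T s ∈ nonZeroDivisors T := by
  let σ : S₁ ⊗[R₁] W →ₐ[R₁] ResidueField S₁ ⊗[ResidueField R₁] ResidueField W :=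
    Algebra.TensorProduct.lift
      (((Algebra.TensorProduct.includeLeft : ResidueField S₁ →ₐ[ResidueField R₁] _).restrictScalars R₁).comp
        (IsScalarTower.toAlgHom R₁ S₁ (ResidueField S₁)))
      (((Algebra.TensorProduct.includeRight : ResidueField W →ₐ[ResidueField R₁]
        ResidueField S₁ ⊗[ResidueField R₁] ResidueField W).restrictScalars R₁).comp
        (IsScalarTower.toAlgHom R₁ W (ResidueField W))) fun _ _ => Commute.all _ _
  obtain ⟨N, hN⟩ := Ideal.exists_maximal (ResidueField S₁ ⊗[ResidueField R₁] ResidueField W)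
  refine ⟨S₁ ⊗[R₁] W, inferInstance, inferInstance,
    (Algebra.TensorProduct.includeRight : W →ₐ[R₁] S₁ ⊗[R₁] W).toRingHom, N.comap σ.toRingHom,
    Ideal.IsPrime.comap _, fun w hw => ?_, fun a => ?_, ?_, fun s hs => ?_⟩
  · show σ ((1 : S₁) ⊗ₜ[R₁] w) ∈ N
    have : residue W w = 0 := (residue_eq_zero_iff w).2 hw
    simp only [σ, Algebra.TensorProduct.lift_tmul, map_one, one_mul, AlgHom.coe_comp, AlgHom.coe_restrictScalars',
      Function.comp_apply, IsScalarTower.coe_toAlgHom', ResidueField.algebraMap_eq, this, map_zero]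
    exact zero_mem _
  · show algebraMap R₁ S₁ a ⊗ₜ[R₁] (1 : W) = (1 : S₁) ⊗ₜ[R₁] algebraMap R₁ W a
    rw [Algebra.algebraMap_eq_smul_one, Algebra.algebraMap_eq_smul_one, TensorProduct.smul_tmul]
  · rw [eq_top_iff]
    rintro y -
    induction y using TensorProduct.induction_on with
    | zero => exact zero_mem _
    | add y z hy hz => exact add_mem hy hz
    | tmul s w =>
      rw [show s ⊗ₜ[R₁] w = algebraMap S₁ (S₁ ⊗[R₁] W) s *
          (Algebra.TensorProduct.includeRight : W →ₐ[R₁] S₁ ⊗[R₁] W) w by simp]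
      exact mul_mem (Subring.subset_closure (Or.inl ⟨s, rfl⟩)) (Subring.subset_closure (Or.inr ⟨w, rfl⟩))
  · refine mem_nonZeroDivisors_iff_right.2 fun y hy => ?_
    have hreg : IsSMulRegular (S₁ ⊗[R₁] W) s := Module.Flat.isSMulRegular_of_nonZeroDivisors hs
    refine hreg.right_eq_zero_of_smul ?_
    rw [Algebra.smul_def, mul_comm]
    exact hy

/-- Embedding a ring of algebraic elements into an algebraically closed field. -/
theorem exists_embedding {L F₀ Ω T : Type u} [Field L] [Field F₀] [Field Ω] [CommRing T] [Algebra L F₀] [Algebra L Ω]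
    [IsAlgClosed Ω] (π : T →+* F₀) (h : ∀ y, IsIntegral L (π y)) :
    ∃ θ : T →+* Ω, (∀ (l : L) (y : T), π y = algebraMap L F₀ l → θ y = algebraMap L Ω l) ∧
      ∀ y, θ y = 0 → π y = 0 := by
  let A₀ : IntermediateField L F₀ := algebraicClosure L F₀
  have hA₀ : ∀ y, π y ∈ A₀ := fun y => mem_algebraicClosure_iff'.2 (h y)
  haveI : Algebra.IsAlgebraic L A₀ := algebraicClosure.isAlgebraic L F₀
  let j : A₀ →ₐ[L] Ω := IsAlgClosed.lift
  refine ⟨j.toRingHom.comp (π.codRestrict A₀ hA₀), fun l y hy => ?_, fun y hy => ?_⟩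
  · rw [← j.commutes]
    exact congrArg j (Subtype.ext hy)
  · exact congrArg Subtype.val (j.toRingHom.injective (hy.trans (map_zero j.toRingHom).symm))

variable {R S Ω : Type u} [CommRing R] [IsDomain R] [IsRegularLocalRing R] [CommRing S] [IsDomain S]
  [IsRegularLocalRing S] [Algebra R S] [Module.FaithfullyFlat R S] [Field Ω] [IsAlgClosed Ω] [Algebra R Ω]
  [Algebra S Ω] [IsScalarTower R S Ω] (K : Type u) [Field K] [Algebra R K] [IsFractionRing R K]
  (B : Type u) [CommRing B] [Algebra R B]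

set_option maxHeartbeats 2000000 in
set_option synthInstance.maxHeartbeats 100000 in
theorem unramFactors_of_rational (hSΩ : Function.Injective (algebraMap S Ω))
    (hrat : ∀ (ψ : B →ₐ[R] Ω) (b : B), ∃ a d : S, d ≠ 0 ∧ ψ b * algebraMap S Ω d = algebraMap S Ω a)
    (p : ℕ) [Fact p.Prime] (hpm : (p : R) ∈ maximalIdeal R) (x : R) [(Ideal.span {x}).IsPrime]
    [(Ideal.span {algebraMap R S x}).IsPrime] (hx : algebraMap R S x ≠ 0) (hpx : (p : R) ∉ Ideal.span {x})
    (hP : (Ideal.span {x}).height = 1)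
    (R₁ : Type u) [CommRing R₁] [IsDomain R₁] [IsDiscreteValuationRing R₁] [Algebra R R₁]
    [IsLocalization.AtPrime R₁ (Ideal.span {x})] [Algebra R₁ K] [IsScalarTower R R₁ K] [IsFractionRing R₁ K] :
    UnramFactors R₁ K (K ⊗[R] B) := by
  classical
  intro M _ _ _ _ φ hφ
  intro W hW
  intro hlW
  set g := (algebraMap K M).comp (algebraMap R₁ K)
  letI : Algebra R₁ W := (RingHom.codRestrict g W hW.1).toAlgebra
  haveI : IsLocalHom (algebraMap R₁ W) := EtRamTower.isLocalHom_codRestrict _ _ hW
  haveI : IsDiscreteValuationRing W := TameAbh.isDVR_of_dominates (A := R₁) (K := K) W hW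
  set P := Ideal.span {x}
  have hsep : Algebra.IsSeparable (ResidueField R₁) (ResidueField W) := by
    haveI := charZero_residue p hpm P hpx R₁
    haveI := TameAbh.isIntegral_residue (A := R₁) (K := K) W (fun a => rfl)
    infer_instance
  refine ⟨?_, hsep⟩
  -- the discrete valuation ring of the parameter upstairs
  set Q := Ideal.span {algebraMap R S x}
  haveI : IsNoetherianRing S := inferInstance
  let S₁ := Localization.AtPrime Q
  haveI : IsDiscreteValuationRing S₁ := TameAbh.dvr_localization_span S (algebraMap R S x) hx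
  have hQP : Q.comap (algebraMap R S) = P := by
    set P' := Q.comap (algebraMap R S)
    haveI : P'.IsPrime := Ideal.IsPrime.comap _
    haveI : Q.LiesOver P' := ⟨rfl⟩
    have hQ1 : Q.height ≤ 1 := Ideal.height_le_one_of_isPrincipal_of_mem_minimalPrimes Q Q
      ⟨⟨inferInstance, le_rfl⟩, fun q hq _ => hq.2⟩
    have h1 : P'.height ≤ 1 := by
      refine le_trans ?_ hQ1
      rw [Ideal.height_eq_height_add_of_liesOver_of_hasGoingDown P' Q]
      exact le_self_add
    have hle : P ≤ P' := (Ideal.span_singleton_le_iff_mem _).2 (Ideal.subset_span rfl)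
    refine (hle.eq_or_lt.resolve_right fun hlt => ?_).symm
    have h3 : (1 : ℕ∞) + 1 ≤ 1 := le_trans (hP ▸ Ideal.height_add_one_le_of_lt_of_isPrime hlt) h1
    exact absurd h3 (by norm_num)
  have huR : ∀ y : P.primeCompl, IsUnit (((algebraMap S S₁).comp (algebraMap R S)) y) := fun y =>
    IsLocalization.map_units S₁ (⟨algebraMap R S y, fun h => y.2 (hQP.le h)⟩ : Q.primeCompl)
  letI : Algebra R₁ S₁ := (IsLocalization.lift (S := R₁) huR).toAlgebra
  have hR₁S₁ : ∀ a, algebraMap R₁ S₁ (algebraMap R R₁ a) = algebraMap S S₁ (algebraMap R S a) := fun a =>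
    IsLocalization.lift_eq huR a
  let tt := algebraMap R R₁ x
  have hmS₁ : maximalIdeal S₁ = Ideal.span {algebraMap R₁ S₁ tt} := by
    rw [hR₁S₁, ← Localization.AtPrime.map_eq_maximalIdeal (I := Q), Ideal.map_span, Set.image_singleton]
  have hmR₁ : maximalIdeal R₁ = Ideal.span {tt} := by
    rw [← IsLocalization.AtPrime.map_eq_maximalIdeal P R₁, Ideal.map_span, Set.image_singleton]
  have hirrS : Irreducible (algebraMap R₁ S₁ tt) := (IsDiscreteValuationRing.irreducible_iff_uniformizer _).2 hmS₁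
  haveI : IsLocalHom (algebraMap R₁ S₁) := ((IsLocalRing.local_hom_TFAE _).out 2 0).1 (by
    rw [hmR₁, Ideal.map_span, Set.image_singleton, hmS₁])
  haveI : Module.Flat R₁ W := by
    haveI : Module.IsTorsionFree R₁ W := by
      refine Module.isTorsionFree_iff_faithfulSMul.2 ((faithfulSMul_iff_algebraMap_injective R₁ W).2 ?_)
      exact TameAbh.algebraMap_injective_of (A := R₁) (K := K) W (fun a => rfl)
    infer_instance
  obtain ⟨T, _, _, inW, Q', hQ'p, hQ'W, hcomm, hclosure, hnzd⟩ := exists_common R₁ S₁ W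
  haveI : Q'.IsPrime := hQ'p
  obtain ⟨q₀, hq₀, hq₀Q⟩ := Ideal.exists_minimalPrimes_le (bot_le : (⊥ : Ideal T) ≤ Q')
  haveI : q₀.IsPrime := hq₀.1.1
  let t' : T := algebraMap S₁ T (algebraMap R₁ S₁ tt)
  have ht'W : t' = inW (algebraMap R₁ W tt) := hcomm tt
  have ht'q : t' ∉ q₀ := fun hmem =>
    Set.disjoint_left.1 (Ideal.disjoint_nonZeroDivisors_of_mem_minimalPrimes hq₀) hmem
      (hnzd _ (mem_nonZeroDivisors_of_ne_zero hirrS.ne_zero))
  let D := T ⧸ q₀
  let F₀ := FractionRing D
  let π : T →+* F₀ := (algebraMap D F₀).comp (Ideal.Quotient.mk q₀)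
  have hπ : ∀ y, π y = 0 ↔ y ∈ q₀ := fun y => by
    rw [RingHom.comp_apply, IsFractionRing.to_map_eq_zero_iff, Ideal.Quotient.eq_zero_iff_mem]
  let iS : S₁ →+* F₀ := π.comp (algebraMap S₁ T)
  let iW : W →+* F₀ := π.comp inW
  have hiS : Function.Injective iS := by
    refine (injective_iff_map_eq_zero _).2 fun s hs => by_contra fun hs0 => ?_
    obtain ⟨n, u, rfl⟩ := IsDiscreteValuationRing.eq_unit_mul_pow_irreducible hs0 hirrS
    rw [map_mul, map_pow] at hs
    rcases mul_eq_zero.1 hs with h | h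
    · exact (u.isUnit.map iS).ne_zero h
    · exact ht'q ((hπ _).1 (eq_zero_of_pow_eq_zero h))
  have hϖW : algebraMap R₁ W tt ≠ 0 := fun h => ht'q (by rw [ht'W, h, map_zero]; exact zero_mem _)
  obtain ⟨ϖ, hϖ⟩ := IsDiscreteValuationRing.exists_irreducible W
  have htm : algebraMap R₁ W tt ∈ maximalIdeal W :=
    map_nonunit (algebraMap R₁ W) tt (hmR₁ ▸ Ideal.subset_span rfl)
  obtain ⟨e, ue, hte⟩ := IsDiscreteValuationRing.eq_unit_mul_pow_irreducible hϖW hϖ
  have hiW : Function.Injective iW := by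
    refine (injective_iff_map_eq_zero _).2 fun s hs => by_contra fun hs0 => ?_
    obtain ⟨n, u, rfl⟩ := IsDiscreteValuationRing.eq_unit_mul_pow_irreducible hs0 hϖ
    rw [map_mul, map_pow] at hs
    rcases mul_eq_zero.1 hs with h | h
    · exact (u.isUnit.map iW).ne_zero h
    · refine ht'q ((hπ _).1 ?_)
      rw [ht'W]
      show iW (algebraMap R₁ W tt) = 0
      rw [hte, map_mul, map_pow, eq_zero_of_pow_eq_zero h]
      rcases Nat.eq_zero_or_pos e with he | he
      · exfalso
        rw [he, pow_zero, mul_one] at hte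
        exact (mem_maximalIdeal _).1 htm (hte ▸ ue.isUnit)
      · rw [zero_pow he.ne', mul_zero]
  let L := FractionRing S
  have huS : ∀ y : Q.primeCompl, IsUnit (algebraMap S L y) := fun y =>
    isUnit_iff_ne_zero.2 fun h => y.2 (by
      rw [IsFractionRing.injective S L (h.trans (map_zero _).symm)]; exact Q.zero_mem)
  letI : Algebra S₁ L := (IsLocalization.lift (S := S₁) huS).toAlgebra
  haveI : IsScalarTower S S₁ L := IsScalarTower.of_algebraMap_eq fun a => (IsLocalization.lift_eq huS a).symm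
  haveI : IsFractionRing S₁ L := IsFractionRing.isFractionRing_of_isDomain_of_isLocalization Q.primeCompl S₁ L
  letI : Algebra L F₀ := (IsFractionRing.lift hiS).toAlgebra
  have hLF : ∀ a, algebraMap L F₀ (algebraMap S₁ L a) = iS a := fun a => IsFractionRing.lift_algebraMap hiS a
  haveI : IsFractionRing W M := inferInstance
  let iM : M →+* F₀ := IsFractionRing.lift hiW
  have hMF : ∀ w : W, iM (w : M) = iW w := fun w => IsFractionRing.lift_algebraMap hiW w
  have hcomp : ∀ a : R, iM (algebraMap K M (algebraMap R K a)) =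
      algebraMap L F₀ (algebraMap S L (algebraMap R S a)) := by
    intro a
    rw [IsScalarTower.algebraMap_apply S S₁ L, ← hR₁S₁, hLF, IsScalarTower.algebraMap_apply R R₁ K,
      show algebraMap K M (algebraMap R₁ K (algebraMap R R₁ a)) = ((algebraMap R₁ W (algebraMap R R₁ a) : W) : M) from rfl,
      hMF]
    exact congrArg π (hcomm _).symm
  -- algebraicity and the embedding in `Ω`
  let kR : R →+* L := (algebraMap S L).comp (algebraMap R S)
  have hkR : Function.Injective kR :=
    (IsFractionRing.injective S L).comp (FaithfulSMul.algebraMap_injective R S)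
  letI : Algebra K L := (IsFractionRing.lift hkR).toAlgebra
  letI : Algebra K F₀ := (iM.comp (algebraMap K M)).toAlgebra
  haveI : IsScalarTower K L F₀ := IsScalarTower.of_algebraMap_eq' (by
    refine IsLocalization.ringHom_ext (nonZeroDivisors R) (RingHom.ext fun a => ?_)
    show iM (algebraMap K M (algebraMap R K a)) = algebraMap L F₀ (algebraMap K L (algebraMap R K a))
    rw [hcomp, show algebraMap K L (algebraMap R K a) = kR a from IsFractionRing.lift_algebraMap hkR a]
    rfl)
  let iMK : M →ₐ[K] F₀ := { iM with commutes' := fun _ => rfl }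
  have hint₀ : ∀ y, IsIntegral L (π y) := by
    have hle : Subring.closure (Set.range (algebraMap S₁ T) ∪ Set.range inW) ≤
        (integralClosure L F₀).toSubring.comap π := by
      refine Subring.closure_le.2 ?_
      rintro _ (⟨s, rfl⟩ | ⟨w, rfl⟩)
      · show IsIntegral L (π (algebraMap S₁ T s))
        rw [show π (algebraMap S₁ T s) = algebraMap L F₀ (algebraMap S₁ L s) from (hLF s).symm]
        exact isIntegral_algebraMap
      · show IsIntegral L (π (inW w))
        rw [show π (inW w) = iMK (w : M) from (hMF w).symm]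
        exact ((Algebra.IsIntegral.isIntegral (R := K) (w : M)).map iMK).tower_top
    exact fun y => hle (by rw [hclosure]; trivial)
  letI : Algebra L Ω := (IsFractionRing.lift hSΩ).toAlgebra
  have hLΩ : ∀ a, algebraMap L Ω (algebraMap S L a) = algebraMap S Ω a := fun a => IsFractionRing.lift_algebraMap hSΩ a
  obtain ⟨θ, hθl, hθ0⟩ := exists_embedding (Ω := Ω) π hint₀
  have hθS : ∀ s, θ (algebraMap S₁ T s) = algebraMap L Ω (algebraMap S₁ L s) := fun s => hθl _ _ (hLF s).symm
  have hθ : ∀ y, θ y = 0 → y ∈ q₀ := fun y hy => (hπ y).1 (hθ0 y hy)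
  let θW : W →+* Ω := θ.comp inW
  have hθW : Function.Injective θW := (injective_iff_map_eq_zero θW).2 fun a ha =>
    hiW ((hθ0 (inW a) ha).trans (map_zero iW).symm)
  let θM : M →+* Ω := IsFractionRing.lift hθW
  have hθM : ∀ w : W, θM (w : M) = θW w := fun w => IsFractionRing.lift_algebraMap hθW w
  have hθR : ∀ a : R, θM (algebraMap K M (algebraMap R K a)) = algebraMap R Ω a := by
    intro a
    rw [IsScalarTower.algebraMap_apply R R₁ K,
      show algebraMap K M (algebraMap R₁ K (algebraMap R R₁ a)) = ((algebraMap R₁ W (algebraMap R R₁ a) : W) : M) from rfl,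
      hθM, IsScalarTower.algebraMap_apply R S Ω, ← hLΩ, IsScalarTower.algebraMap_apply S S₁ L, ← hR₁S₁, ← hθS]
    exact congrArg θ (hcomm _).symm
  let ψ : B →ₐ[R] Ω :=
    { toRingHom := θM.comp (φ.toRingHom.comp (Algebra.TensorProduct.includeRight : B →ₐ[R] K ⊗[R] B).toRingHom)
      commutes' := fun a => by
        show θM (φ ((1 : K) ⊗ₜ[R] algebraMap R B a)) = _
        rw [← hθR, ← φ.commutes, Algebra.algebraMap_eq_smul_one (A := B), ← TensorProduct.smul_tmul,
          Algebra.smul_def, mul_one, Algebra.TensorProduct.algebraMap_apply, Algebra.algebraMap_self, RingHom.id_apply] }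
  let G : Subfield Ω := (algebraMap L Ω).fieldRange
  have hG : ∀ m, θM m ∈ G := by
    intro m
    obtain ⟨z, rfl⟩ := hφ m
    induction z using TensorProduct.induction_on with
    | zero => rw [map_zero, map_zero]; exact zero_mem _
    | add y z hy hz => rw [map_add, map_add]; exact add_mem hy hz
    | tmul k b =>
      obtain ⟨n, d, hd, rfl⟩ := IsFractionRing.div_surjective (A := R) k
      have e : (algebraMap R K n / algebraMap R K d) ⊗ₜ[R] b =
          algebraMap K (K ⊗[R] B) (algebraMap R K n / algebraMap R K d) * ((1 : K) ⊗ₜ[R] b) := by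
        rw [Algebra.TensorProduct.algebraMap_apply, Algebra.TensorProduct.tmul_mul_tmul, Algebra.algebraMap_self,
          RingHom.id_apply, mul_one, one_mul]
      rw [e, map_mul, map_mul, φ.commutes, map_div₀, map_div₀, hθR, hθR]
      have hRG : ∀ a : R, algebraMap R Ω a ∈ G := fun a =>
        ⟨algebraMap S L (algebraMap R S a), by rw [hLΩ, ← IsScalarTower.algebraMap_apply R S Ω]⟩
      refine mul_mem (div_mem (hRG n) (hRG d)) ?_
      obtain ⟨a, c, hc, habc⟩ := hrat ψ b
      have : θM (φ ((1 : K) ⊗ₜ[R] b)) = algebraMap S Ω a / algebraMap S Ω c :=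
        (eq_div_iff ((map_ne_zero_iff _ hSΩ).2 hc)).2 habc
      rw [this]
      exact div_mem ⟨_, hLΩ a⟩ ⟨_, hLΩ c⟩
  let U : Subring Ω := θ.range
  have hU : ∀ y : T, ∃ s : S₁, θ y = algebraMap L Ω (algebraMap S₁ L s) := by
    intro y
    obtain ⟨l, hl⟩ : θ y ∈ G := by
      have hle : Subring.closure (Set.range (algebraMap S₁ T) ∪ Set.range inW) ≤ G.toSubring.comap θ := by
        refine Subring.closure_le.2 ?_
        rintro _ (⟨s, rfl⟩ | ⟨w, rfl⟩)
        · exact ⟨algebraMap S₁ L s, (hθS s).symm⟩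
        · show θ (inW w) ∈ G
          exact (hθM w).symm ▸ hG _
      exact hle (by rw [hclosure]; trivial)
    rcases eq_or_ne l 0 with rfl | hl0
    · exact ⟨0, by rw [← hl, map_zero, map_zero, map_zero]⟩
    rcases ValuationRing.isInteger_or_isInteger S₁ l with ⟨s, hs⟩ | ⟨s, hs⟩
    · exact ⟨s, by rw [hs, hl]⟩
    by_cases hsu : IsUnit s
    · obtain ⟨u, rfl⟩ := hsu
      refine ⟨↑u⁻¹, ?_⟩
      rw [← hl]
      congr 1
      have h1 : algebraMap S₁ L (u : S₁) * algebraMap S₁ L (↑u⁻¹ : S₁) = 1 := by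
        rw [← map_mul, Units.mul_inv, map_one]
      rw [hs] at h1
      exact (inv_mul_eq_one₀ hl0).1 h1
    exfalso
    obtain ⟨s', hs'⟩ := Ideal.mem_span_singleton.1 (hmS₁ ▸ (IsLocalRing.mem_maximalIdeal s).2 hsu)
    have h1 : y * algebraMap S₁ T s - 1 ∈ q₀ := hθ _ (by
      rw [map_sub, map_mul, map_one, hθS, hs, map_inv₀, ← hl, sub_eq_zero]
      exact mul_inv_cancel₀ ((map_ne_zero _).2 hl0))
    have h2 : y * algebraMap S₁ T s ∈ Q' := by
      rw [hs', map_mul, ← mul_assoc]
      refine Q'.mul_mem_right _ (Q'.mul_mem_left _ ?_)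
      show t' ∈ Q'
      rw [ht'W]
      exact hQ'W _ htm
    refine Ideal.IsPrime.ne_top (inferInstance : Q'.IsPrime) ((Ideal.eq_top_iff_one _).2 ?_)
    simpa using sub_mem h2 (hq₀Q h1)
  choose jj hjj using fun w : W => hU (inW w)
  have hLinj : Function.Injective fun s => algebraMap L Ω (algebraMap S₁ L s) :=
    (algebraMap L Ω).injective.comp (IsFractionRing.injective S₁ L)
  have hnu : ¬ IsUnit (jj ϖ) := fun hu => by
    obtain ⟨v, hv⟩ := hu
    have h1 : inW ϖ * algebraMap S₁ T (↑v⁻¹ : S₁) - 1 ∈ q₀ := hθ _ (by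
      rw [map_sub, map_mul, map_one, hθS, hjj, ← hv, ← map_mul, ← map_mul, Units.mul_inv, map_one, map_one, sub_self])
    refine Ideal.IsPrime.ne_top (inferInstance : Q'.IsPrime) ((Ideal.eq_top_iff_one _).2 ?_)
    simpa using sub_mem (Q'.mul_mem_right (algebraMap S₁ T (↑v⁻¹ : S₁)) (hQ'W ϖ ((mem_maximalIdeal _).2 hϖ.not_isUnit)))
      (hq₀Q h1)
  have he1 : e = 1 := by
    have h1 : algebraMap R₁ S₁ tt = jj (ue : W) * jj ϖ ^ e := hLinj (by
      show algebraMap L Ω (algebraMap S₁ L (algebraMap R₁ S₁ tt)) = algebraMap L Ω (algebraMap S₁ L (jj (ue : W) * jj ϖ ^ e))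
      rw [map_mul, map_mul, map_pow, map_pow, ← hjj, ← hjj, ← hθS]
      show θ t' = _
      rw [ht'W, hte]
      show θW ((ue : W) * ϖ ^ e) = θW (ue : W) * θW ϖ ^ e
      rw [map_mul, map_pow])
    rcases e with _ | _ | e
    · exfalso
      rw [pow_zero, mul_one] at hte
      exact (mem_maximalIdeal _).1 htm (hte ▸ ue.isUnit)
    · rfl
    · exfalso
      rw [pow_succ, ← mul_assoc] at h1
      rcases hirrS.isUnit_or_isUnit h1 with h2 | h2
      · rw [pow_succ, ← mul_assoc] at h2
        exact hnu (isUnit_of_mul_isUnit_right h2)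
      · exact hnu h2
  show Ideal.map (algebraMap R₁ W) (maximalIdeal R₁) = maximalIdeal W
  rw [hmR₁, Ideal.map_span, Set.image_singleton, hte, he1, pow_one, Ideal.span_singleton_mul_left_unit ue.isUnit,
    ← (IsDiscreteValuationRing.irreducible_iff_uniformizer ϖ).1 hϖ]

end Groth.Agent.AbsAbh
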