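import Groth.Agent.AbsAbh.Along
import Groth.Agent.AbsAbh.Descent
import Groth.Agent.AbsAbh.Rational
import Groth.Agent.RegLoc.Normal
import Mathlib.Data.Nat.Factorization.Basic

/-!
# The absolute Abhyankar lemma, algebraic form
-/

set_option autoImplicit false
set_option backward.isDefEq.respectTransparency false

universe u

open IsLocalRing SGA1
open scoped TensorProduct

namespace Groth.Agent.AbsAbh

theorem exists_radicial (R : Type u) [CommRing R] [IsDomain R] [IsRegularLocalRing R] {r : ℕ} (t : Fin r → R)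
    (ht : ∀ i, t i ∈ maximalIdeal R) (hti : CotIndep t ht) (q : Fin r → ℕ) (hq : ∀ i, 1 ≤ q i) :
    ∃ (R' : Type u) (_ : CommRing R') (_ : IsDomain R') (_ : IsRegularLocalRing R') (_ : Algebra R R')
      (_ : Module.Finite R R'),
      Function.Injective (algebraMap R R') ∧ (∀ i, ∃ s : R', s ^ q i = algebraMap R R' (t i)) ∧
      ∀ (C : Type u) [CommRing C] [Algebra R C], (∀ i, ∃ c : C, c ^ q i = algebraMap R C (t i)) →
        Nonempty (R' →ₐ[R] C) := by
  obtain ⟨hreg, -, -, -⟩ := kummer_params t q ht hti hq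
  refine ⟨kummerAlg R t q, inferInstance, RegLoc.isDomain (A := kummerAlg R t q), hreg, inferInstance,
    finite_kummer t q hq, injective_kummer t q hq, fun i => ⟨kt t q i, kt_pow t q i⟩, fun C _ _ hc => ?_⟩
  choose c hc using hc
  obtain ⟨g, -⟩ := exists_hom t q C c hc
  exact ⟨g⟩

theorem exists_radicial_strict (S : Type u) [CommRing S] [IsDomain S] [IsRegularLocalRing S] [HenselianLocalRing S]
    [IsSepClosed (ResidueField S)] {r : ℕ} (t : Fin r → S) (ht : ∀ i, t i ∈ maximalIdeal S) (hti : CotIndep t ht)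
    (p : ℕ) [Fact p.Prime] (q : Fin r → ℕ) (hq : ∀ i, ∃ k, q i = p ^ k) :
    ∃ (S' : Type u) (_ : CommRing S') (_ : IsDomain S') (_ : IsIntegrallyClosed S') (_ : HenselianLocalRing S')
      (_ : Algebra S S') (_ : Algebra.IsIntegral S S'),
      IsSepClosed (ResidueField S') ∧ Function.Injective (algebraMap S S') ∧
      (∀ i, ∃ s : S', s ^ q i = algebraMap S S' (t i)) ∧
      ∀ x : S', ∃ (k : ℕ) (a : S) (w : S'), x ^ p ^ k = algebraMap S S' a + (p : S') * w := by
  have hq1 : ∀ i, 1 ≤ q i := fun i => by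
    obtain ⟨k, hk⟩ := hq i
    rw [hk]; exact Nat.one_le_pow _ _ (Fact.out : p.Prime).pos
  obtain ⟨hreg, -, -, hloc⟩ := kummer_params t q ht hti hq1
  haveI := hreg
  haveI := hloc
  haveI : Module.Finite S (kummerAlg S t q) := finite_kummer t q hq1
  obtain ⟨hh, hsc⟩ : EtCoh.IsStrictlyHenselianLocalRing (kummerAlg S t q) :=
    Groth.Agent.S14620.result (algebraMap S (kummerAlg S t q)) (RingHom.finite_algebraMap.2 inferInstance)
      ⟨inferInstance, inferInstance⟩
  haveI hdom := RegLoc.isDomain (A := kummerAlg S t q)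
  exact ⟨kummerAlg S t q, inferInstance, hdom, RegLoc.isIntegrallyClosed (A := kummerAlg S t q), hh, inferInstance,
    Algebra.IsIntegral.of_finite _ _, hsc, injective_kummer t q hq1, fun i => ⟨kt t q i, kt_pow t q i⟩,
    radicial_kummer t p q hq⟩

/-- The integral closure of `R` in the base change of `Γ` is finite étale. -/
def ExtEtale (R Γ : Type u) {A : Type u} [CommRing A] [CommRing R] [CommRing Γ] [Algebra A R] [Algebra A Γ] : Prop :=
  Algebra.Etale R (integralClosure R (R ⊗[A] Γ)) ∧ Module.Finite R (integralClosure R (R ⊗[A] Γ))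

variable {A : Type u} [CommRing A] [IsDomain A] [IsRegularLocalRing A] {r : ℕ} {f : Fin r → A}
  [∀ i, (Ideal.span {f i}).IsPrime] {Γ : Type u} [CommRing Γ] [Algebra A Γ] [Algebra.Etale A Γ]

theorem hint_baseChange (hint : ∀ γ : Γ, ∃ k : ℕ, IsIntegral A ((∏ i, f i) ^ k • γ)) (R : Type u) [CommRing R]
    [Algebra A R] (b : R ⊗[A] Γ) : ∃ k : ℕ, IsIntegral R ((algebraMap A R (∏ i, f i)) ^ k • b) := by
  set F := ∏ i, f i
  induction b using TensorProduct.induction_on with
  | zero => exact ⟨0, by rw [smul_zero]; exact isIntegral_zero⟩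
  | tmul x γ =>
    obtain ⟨k, hk⟩ := hint γ
    refine ⟨k, ?_⟩
    have h1 : IsIntegral R ((1 : R) ⊗ₜ[A] (F ^ k • γ)) :=
      (hk.map (Algebra.TensorProduct.includeRight : Γ →ₐ[A] R ⊗[A] Γ)).tower_top
    have e : (algebraMap A R F) ^ k • (x ⊗ₜ[A] γ) = x • ((1 : R) ⊗ₜ[A] (F ^ k • γ)) := by
      rw [TensorProduct.smul_tmul', TensorProduct.smul_tmul', ← TensorProduct.smul_tmul, smul_eq_mul, smul_eq_mul,
        mul_one, Algebra.smul_def, map_pow]
    rw [e]
    exact h1.smul _
  | add y z hy hz =>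
    obtain ⟨k, hk⟩ := hy
    obtain ⟨l, hl⟩ := hz
    refine ⟨k + l, ?_⟩
    rw [smul_add, pow_add]
    refine IsIntegral.add ?_ ?_
    · rw [mul_comm, mul_smul]; exact hk.smul _
    · rw [mul_smul]; exact hl.smul _

theorem isUnit_prod_baseChange (hFΓ : IsUnit (algebraMap A Γ (∏ i, f i))) (R : Type u) [CommRing R] [Algebra A R] :
    IsUnit (algebraMap R (R ⊗[A] Γ) (algebraMap A R (∏ i, f i))) := by
  have := hFΓ.map (Algebra.TensorProduct.includeRight : Γ →ₐ[A] R ⊗[A] Γ)
  rwa [AlgHom.commutes, IsScalarTower.algebraMap_apply A R (R ⊗[A] Γ)] at this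

theorem prod_ne_zero_algebraMap (hm : ∀ i, f i ∈ maximalIdeal A) (hf : CotIndep f hm) (R : Type u) [CommRing R]
    [IsDomain R] [Algebra A R] (hinjR : Function.Injective (algebraMap A R)) : algebraMap A R (∏ i, f i) ≠ 0 :=
  fun h => (Finset.prod_ne_zero_iff.2 fun i _ => (hf.prime i).1 : (∏ i, f i) ≠ 0) (hinjR (h.trans (map_zero _).symm))

/-- All ramification killed: the integral closure is étale. -/
theorem etale_of_roots (hm : ∀ i, f i ∈ maximalIdeal A) (hf : CotIndep f hm)
    (htame : SGA1.IsTameAlong f (algebraMap A Γ)) (hFΓ : IsUnit (algebraMap A Γ (∏ i, f i)))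
    (hint : ∀ γ : Γ, ∃ k : ℕ, IsIntegral A ((∏ i, f i) ^ k • γ))
    (R : Type u) [CommRing R] [IsDomain R] [IsRegularLocalRing R] [Algebra A R] [Module.Finite A R]
    (hinjR : Function.Injective (algebraMap A R)) (e : Fin r → ℕ)
    (he : ∀ i, (e i : ResidueField (Localization.AtPrime (Ideal.span {f i}))) ≠ 0)
    (hidx : ∀ i, IsIndex f Γ i (e i)) (hroot : ∀ i, ∃ t : R, t ^ e i = algebraMap A R (f i)) :
    ExtEtale (A := A) R Γ := by
  refine etale_integralClosure_regular R (FractionRing R) (R ⊗[A] Γ) (algebraMap A R (∏ i, f i))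
    (prod_ne_zero_algebraMap hm hf R hinjR) (isUnit_prod_baseChange hFΓ R) (hint_baseChange hint R) ?_
  intro P _ hP hFP S _ _ _ _ _ _ _ _
  exact unramFactors_of_roots hm hf htame R hinjR (FractionRing R) e e he hidx P hP hFP
    (fun i _ => ⟨dvd_rfl, hroot i⟩) S

set_option maxHeartbeats 2000000 in
/-- Removing the `p`-part of the exponents. -/
theorem etale_descent (hm : ∀ i, f i ∈ maximalIdeal A) (hf : CotIndep f hm)
    (htame : SGA1.IsTameAlong f (algebraMap A Γ)) (hFΓ : IsUnit (algebraMap A Γ (∏ i, f i)))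
    (hint : ∀ γ : Γ, ∃ k : ℕ, IsIntegral A ((∏ i, f i) ^ k • γ))
    (p : ℕ) [Fact p.Prime] (hpA : (p : A) ∈ maximalIdeal A) (hpA0 : (p : A) ≠ 0) (e m q : Fin r → ℕ)
    (he : ∀ i, (e i : ResidueField (Localization.AtPrime (Ideal.span {f i}))) ≠ 0)
    (hidx : ∀ i, IsIndex f Γ i (e i)) (hmq : ∀ i, q i * m i = e i) (hq : ∀ i, ∃ k, q i = p ^ k)
    (hgood : ∀ i, (p : A) ∈ Ideal.span {f i} → q i = 1)
    (R : Type u) [CommRing R] [IsDomain R] [IsRegularLocalRing R] [Algebra A R] [Module.Finite A R]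
    [IsLocalHom (algebraMap A R)]
    (hinjR : Function.Injective (algebraMap A R)) (t : Fin r → R) (ht : ∀ i, t i ∈ maximalIdeal R)
    (hti : CotIndep t ht) (htp : ∀ i, t i ^ m i = algebraMap A R (f i)) :
    ExtEtale (A := A) R Γ := by
  classical
  set F := algebraMap A R (∏ i, f i)
  have hFB : IsUnit (algebraMap R (R ⊗[A] Γ) F) := isUnit_prod_baseChange hFΓ R
  have hintR := hint_baseChange hint R
  have hF0 : F ≠ 0 := prod_ne_zero_algebraMap hm hf R hinjR
  have hq1 : ∀ i, 1 ≤ q i := fun i => by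
    obtain ⟨k, hk⟩ := hq i
    rw [hk]; exact Nat.one_le_pow _ _ (Fact.out : p.Prime).pos
  have hpR : (p : R) ∈ maximalIdeal R := by
    rw [← map_natCast (algebraMap A R) p]; exact map_nonunit _ _ hpA
  have hpR0 : (p : R) ≠ 0 := fun h => hpA0 (hinjR (by rw [map_natCast, map_zero, h]))
  let K := FractionRing R
  -- unramified at the height one primes containing `p`
  have H2 : ∀ (P : Ideal R) [P.IsPrime], P.height = 1 → (p : R) ∈ P → F ∈ P →
      ∀ (S : Type u) [CommRing S] [IsDomain S] [IsDiscreteValuationRing S] [Algebra R S] [IsLocalization.AtPrime S P]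
        [Algebra S K] [IsScalarTower R S K] [IsFractionRing S K], UnramFactors S K (K ⊗[R] (R ⊗[A] Γ)) := by
    intro P _ hP hpP hFP S _ _ _ _ _ _ _ _
    refine unramFactors_of_roots hm hf htame R hinjR K e m he hidx P hP hFP (fun i hi => ?_) S
    refine ⟨?_, t i, htp i⟩
    suffices hmem : (p : A) ∈ Ideal.span {f i} by rw [← hmq i, hgood i hmem, one_mul]
    haveI : FaithfulSMul A R := (faithfulSMul_iff_algebraMap_injective A R).2 hinjR
    haveI := UFDLib.ufd_of_isRegularLocalRing A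
    haveI : Algebra.IsIntegral A R := Algebra.IsIntegral.of_finite A R
    have h1 : (p : A) ∈ P.comap (algebraMap A R) := by rw [Ideal.mem_comap, map_natCast]; exact hpP
    haveI : (P.comap (algebraMap A R)).IsPrime := Ideal.IsPrime.comap _
    haveI : P.LiesOver (P.comap (algebraMap A R)) := ⟨rfl⟩
    have hle : (P.comap (algebraMap A R)).height ≤ 1 := by
      rw [← hP, Ideal.height_eq_height_add_of_liesOver_of_hasGoingDown (P.comap (algebraMap A R)) P]
      exact le_self_add
    have hsub : Ideal.span {f i} ≤ P.comap (algebraMap A R) := (Ideal.span_singleton_le_iff_mem _).2 hi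
    refine (hsub.eq_or_lt.resolve_right fun hlt => ?_).symm ▸ h1
    haveI : (⊥ : Ideal A).IsPrime := Ideal.isPrime_bot
    have h2 := Ideal.height_add_one_le_of_lt_of_isPrime (bot_lt_iff_ne_bot.2 (fun h0 =>
      (hf.prime i).1 (Ideal.span_singleton_eq_bot.1 h0)) : (⊥ : Ideal A) < Ideal.span {f i})
    have h3 : (1 : ℕ∞) + 1 ≤ 1 :=
      le_trans (le_trans (add_le_add_left (le_trans le_add_self h2) 1) (Ideal.height_add_one_le_of_lt_of_isPrime hlt)) hle
    exact absurd h3 (by norm_num)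
  obtain ⟨R', _, _, _, _, _, hinjR', hrootR', hexR'⟩ := exists_radicial R t ht hti q hq1
  letI : Algebra A R' := ((algebraMap R R').comp (algebraMap A R)).toAlgebra
  haveI : IsScalarTower A R R' := IsScalarTower.of_algebraMap_eq fun _ => rfl
  haveI : Module.Finite A R' := Module.Finite.trans R R'
  obtain ⟨het, hfin⟩ := etale_of_roots hm hf htame hFΓ hint R' (hinjR'.comp hinjR) e he hidx fun i => by
    obtain ⟨s, hs⟩ := hrootR' i
    exact ⟨s, by rw [← hmq i, pow_mul, hs, ← map_pow, htp, ← IsScalarTower.algebraMap_apply A R R']⟩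
  have H1 : Algebra.Etale R' (integralClosure R' (R' ⊗[R] (R ⊗[A] Γ))) ∧
      Module.Finite R' (integralClosure R' (R' ⊗[R] (R ⊗[A] Γ))) := by
    let ε := (Algebra.TensorProduct.cancelBaseChange A R R' R' Γ).mapIntegralClosure.symm
    haveI := het
    haveI := hfin
    exact ⟨Algebra.Etale.of_equiv ε, Module.Finite.equiv ε.toLinearEquiv⟩
  obtain ⟨S, _, _, _, _, _, _, hSh, hSsc, hmS, hdim⟩ := exists_sh R
  haveI := hSh
  haveI := hSsc
  have htS : ∀ i, algebraMap R S (t i) ∈ maximalIdeal S := fun i => hmS.le (Ideal.mem_map_of_mem _ (ht i))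
  have htiS : CotIndep (fun i => algebraMap R S (t i)) htS := cotIndep_map hdim hmS t ht hti htS
  obtain ⟨S', _, _, _, _, _, _, hsc', hSS', hrootS', hrad⟩ := exists_radicial_strict S _ htS htiS p q hq
  haveI := hsc'
  letI : Algebra R S' := ((algebraMap S S').comp (algebraMap R S)).toAlgebra
  haveI : IsScalarTower R S S' := IsScalarTower.of_algebraMap_eq fun _ => rfl
  obtain ⟨g⟩ := hexR' S' hrootS'
  letI : Algebra R' S' := g.toRingHom.toAlgebra
  haveI : IsScalarTower R R' S' := IsScalarTower.of_algebraMap_eq fun a => (g.commutes a).symm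
  let K' := FractionRing S'
  let Ω := AlgebraicClosure K'
  have hpS : ¬ IsUnit (p : S) := by
    rw [← map_natCast (algebraMap R S) p]
    exact (IsLocalRing.mem_maximalIdeal _).1 (hmS.le (Ideal.mem_map_of_mem _ hpR))
  have H1' : ∃ (C : Type u) (_ : CommRing C) (_ : Algebra R' C) (_ : Algebra.Etale R' C) (_ : Module.Finite R' C)
      (j : C →ₐ[R'] R' ⊗[R] (R ⊗[A] Γ)), ∀ b : R ⊗[A] Γ, ∃ (k : ℕ) (c : C), j c = (1 : R') ⊗ₜ[R] (F ^ k • b) :=
    ⟨_, inferInstance, inferInstance, H1.1, H1.2, (integralClosure R' (R' ⊗[R] (R ⊗[A] Γ))).val, fun b => by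
      obtain ⟨k, hk⟩ := hintR b
      exact ⟨k, ⟨_, (hk.map (Algebra.TensorProduct.includeRight : R ⊗[A] Γ →ₐ[R] R' ⊗[R] (R ⊗[A] Γ))).tower_top⟩,
        rfl⟩⟩
  have hrat := points_rational p K (R ⊗[A] Γ) R' S S' Ω K' hpR0 hpS hSS' hrad F hFB hintR H1' H2
  have hS'Ω : Function.Injective (algebraMap S' Ω) := by
    rw [IsScalarTower.algebraMap_eq S' K' Ω]
    exact (algebraMap K' Ω).injective.comp (IsFractionRing.injective S' K')
  have hSΩ : Function.Injective (algebraMap S Ω) := hS'Ω.comp hSS'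
  refine etale_integralClosure_regular R K (R ⊗[A] Γ) F hF0 hFB hintR ?_
  intro P _ hP hFP S₁ _ _ _ _ _ _ _ _
  by_cases hpP : (p : R) ∈ P
  · exact H2 P hP hpP hFP S₁
  obtain ⟨i, hi⟩ : ∃ i, t i ∈ P := by
    rw [show F = ∏ i, t i ^ m i by simp only [F, map_prod, htp]] at hFP
    obtain ⟨i, -, hi⟩ := (inferInstance : P.IsPrime).prod_mem_iff.1 hFP
    exact ⟨i, (inferInstance : P.IsPrime).mem_of_pow_mem _ hi⟩
  haveI := (hti.prime i).2
  have hPeq : Ideal.span {t i} = P := by
    have hle : Ideal.span {t i} ≤ P := (Ideal.span_singleton_le_iff_mem _).2 hi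
    refine hle.eq_or_lt.resolve_right fun hlt => ?_
    haveI : (⊥ : Ideal R).IsPrime := Ideal.isPrime_bot
    have h2 := Ideal.height_add_one_le_of_lt_of_isPrime (bot_lt_iff_ne_bot.2 (fun h0 =>
      (hti.prime i).1 (Ideal.span_singleton_eq_bot.1 h0)) : (⊥ : Ideal R) < Ideal.span {t i})
    have h3 : (1 : ℕ∞) + 1 ≤ 1 :=
      le_trans (le_trans (add_le_add_left (le_trans le_add_self h2) 1) (Ideal.height_add_one_le_of_lt_of_isPrime hlt)) hP.le
    exact absurd h3 (by norm_num)
  subst hPeq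
  haveI := (htiS.prime i).2
  exact unramFactors_of_rational K (R ⊗[A] Γ) hSΩ hrat p hpR (t i) (htiS.prime i).1 hpP hP S₁

set_option maxHeartbeats 1000000 in
/-- The absolute Abhyankar lemma, algebraic form. -/
theorem exists_kummer_etale (hm : ∀ i, f i ∈ maximalIdeal A) (hf : CotIndep f hm)
    (htame : SGA1.IsTameAlong f (algebraMap A Γ)) (hFΓ : IsUnit (algebraMap A Γ (∏ i, f i)))
    (hint : ∀ γ : Γ, ∃ k : ℕ, IsIntegral A ((∏ i, f i) ^ k • γ)) :
    ∃ n : Fin r → ℕ, (∀ i, 1 ≤ n i) ∧ (∀ i, IsUnit ((n i : ℕ) : ResidueField A)) ∧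
      ExtEtale (A := A) (kummerAlg A f n) Γ := by
  classical
  choose e he0 hek hidx using fun i => exists_index hm hf htame i
  have direct : (∀ i, IsUnit ((e i : ℕ) : ResidueField A)) → ∃ n : Fin r → ℕ, (∀ i, 1 ≤ n i) ∧
      (∀ i, IsUnit ((n i : ℕ) : ResidueField A)) ∧
      ExtEtale (A := A) (kummerAlg A f n) Γ := by
    intro hu
    have hn : ∀ i, 1 ≤ e i := he0
    obtain ⟨hreg, -, -, -⟩ := kummer_params f e hm hf hn
    haveI := hreg
    haveI := RegLoc.isDomain (A := kummerAlg A f e)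
    haveI := finite_kummer f e hn
    exact ⟨e, hn, hu, etale_of_roots hm hf htame hFΓ hint (kummerAlg A f e) (injective_kummer f e hn) e hek hidx
      fun i => ⟨kt f e i, kt_pow f e i⟩⟩
  obtain ⟨p, hp⟩ := CharP.exists (ResidueField A)
  haveI := hp
  rcases CharP.char_is_prime_or_zero (ResidueField A) p with hpp | hp0
  swap
  · subst hp0
    haveI := CharP.charP_to_charZero (ResidueField A)
    exact direct fun i => isUnit_iff_ne_zero.2 (Nat.cast_ne_zero.2 (he0 i).ne')
  haveI : Fact p.Prime := ⟨hpp⟩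
  have hpm : (p : A) ∈ maximalIdeal A := by
    rw [← residue_eq_zero_iff, map_natCast]; exact CharP.cast_eq_zero _ p
  have hgood : ∀ i, (p : A) ∈ Ideal.span {f i} → ¬ p ∣ e i := by
    rintro i hi ⟨c, hc⟩
    refine hek i ?_
    rw [hc, Nat.cast_mul]
    have h0 : (p : ResidueField (Localization.AtPrime (Ideal.span {f i}))) = 0 := by
      rw [← map_natCast (residue (Localization.AtPrime (Ideal.span {f i}))) p, residue_eq_zero_iff,
        ← map_natCast (algebraMap A (Localization.AtPrime (Ideal.span {f i}))) p]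
      exact (IsLocalization.AtPrime.to_map_mem_maximal_iff _ (Ideal.span {f i}) _).2 hi
    rw [h0, zero_mul]
  by_cases hpA0 : (p : A) = 0
  · refine direct fun i => isUnit_iff_ne_zero.2 fun h => ?_
    exact hgood i (hpA0 ▸ zero_mem _) ((CharP.cast_eq_zero_iff (ResidueField A) p _).1 h)
  let q : Fin r → ℕ := fun i => p ^ (e i).factorization p
  let m : Fin r → ℕ := fun i => e i / p ^ (e i).factorization p
  have hmq : ∀ i, q i * m i = e i := fun i => Nat.ordProj_mul_ordCompl_eq_self (e i) p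
  have hm1 : ∀ i, 1 ≤ m i := fun i => Nat.ordCompl_pos p (he0 i).ne'
  have hmu : ∀ i, IsUnit ((m i : ℕ) : ResidueField A) := fun i => isUnit_iff_ne_zero.2 fun h =>
    Nat.not_dvd_ordCompl hpp (he0 i).ne' ((CharP.cast_eq_zero_iff (ResidueField A) p _).1 h)
  obtain ⟨hreg, ht, hti, hloc⟩ := kummer_params f m hm hf hm1
  haveI := hreg
  haveI := hloc
  haveI := RegLoc.isDomain (A := kummerAlg A f m)
  haveI := finite_kummer f m hm1
  exact ⟨m, hm1, hmu, etale_descent hm hf htame hFΓ hint p hpm hpA0 e m q hek hidx hmq (fun i => ⟨_, rfl⟩)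
    (fun i hi => by simp [q, Nat.factorization_eq_zero_of_not_dvd (hgood i hi)])
    (kummerAlg A f m) (injective_kummer f m hm1) (kt f m) ht hti (kt_pow f m)⟩

end Groth.Agent.AbsAbh
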