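import Groth.Agent.AbsAbh.Main
import Groth.Agent.AbsAbh.Cofinal
import Groth.Agent.TameAbh.Closure
import Groth.Agent.S14620

/-!
# Regular tame covers of a strictly local regular scheme are Kummer
-/

set_option autoImplicit false
set_option backward.isDefEq.respectTransparency false

universe u

open IsLocalRing SGA1
open scoped TensorProduct

namespace Groth.Agent.AbsAbh

theorem exists_root_of_strict {B : Type u} [CommRing B] [HenselianLocalRing B] [IsSepClosed (ResidueField B)]
    (e : ℕ) (he : (e : ResidueField B) ≠ 0) (u : Bˣ) : ∃ w : B, w ^ e = u := by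
  have he1 : e ≠ 0 := fun h => he (by rw [h, Nat.cast_zero])
  haveI : NeZero (e : ResidueField B) := ⟨he⟩
  obtain ⟨z, hz⟩ := IsSepClosed.exists_pow_nat_eq (residue B (u : B)) e
  obtain ⟨w₀, rfl⟩ := residue_surjective z
  have hz0 : residue B w₀ ≠ 0 := fun h => by
    rw [h, zero_pow he1] at hz
    exact (u.isUnit.map (residue B)).ne_zero hz.symm
  obtain ⟨w, hw, -⟩ := HenselianLocalRing.is_henselian (Polynomial.X ^ e - Polynomial.C (u : B))
    (Polynomial.monic_X_pow_sub_C _ he1) w₀
    (by rw [← residue_eq_zero_iff]; simp [hz])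
    (by
      rw [← notMem_maximalIdeal, ← residue_eq_zero_iff]
      simp [Polynomial.derivative_X_pow, he, hz0])
  exact ⟨w, sub_eq_zero.1 (by simpa using hw)⟩

theorem surjective_of_injective_endo {A R : Type u} [CommRing A] [CommRing R] [IsDomain R] [Algebra A R]
    [Algebra.IsIntegral A R] (ψ : R →ₐ[A] R) (hψ : Function.Injective ψ) : Function.Surjective ψ := by
  classical
  intro y
  obtain ⟨p, hp, hpy⟩ := Algebra.IsIntegral.isIntegral (R := A) y
  let T : Set R := {x | Polynomial.eval₂ (algebraMap A R) x p = 0}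
  have hT : T.Finite := by
    refine ((p.map (algebraMap A R)).roots.toFinset.finite_toSet).subset fun x hx => ?_
    rw [Finset.mem_coe, Multiset.mem_toFinset, Polynomial.mem_roots (hp.map _).ne_zero, Polynomial.IsRoot,
      Polynomial.eval_map]
    exact hx
  have hmap : Set.MapsTo ψ T T := fun x hx => by
    show Polynomial.eval₂ (algebraMap A R) (ψ x) p = 0
    have h := congrArg ψ (show Polynomial.aeval x p = 0 from hx)
    rwa [map_zero, ← Polynomial.aeval_algHom_apply] at h
  obtain ⟨x, -, hx⟩ := ((hT.injOn_iff_bijOn_of_mapsTo hmap).1 hψ.injOn).surjOn (show y ∈ T from hpy)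
  exact ⟨x, hx⟩

theorem injective_of_integral {A R T : Type u} [CommRing A] [IsDomain A] [CommRing R] [IsDomain R] [CommRing T] [IsDomain T]
    [Algebra A R] [Algebra A T] [Algebra.IsIntegral A R] (g : R →ₐ[A] T) (hinj : Function.Injective (algebraMap A T)) :
    Function.Injective g := by
  refine (RingHom.injective_iff_ker_eq_bot g.toRingHom).2 ?_
  haveI : (RingHom.ker g.toRingHom).IsPrime := RingHom.ker_isPrime _
  refine Ideal.eq_bot_of_comap_eq_bot (R := A) ?_
  rw [RingHom.comap_ker, show g.toRingHom.comp (algebraMap A R) = algebraMap A T from g.comp_algebraMap]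
  exact (RingHom.injective_iff_ker_eq_bot _).1 hinj

variable {A : Type u} [CommRing A] [IsDomain A] [IsRegularLocalRing A] {r : ℕ} {f : Fin r → A}
  [∀ i, (Ideal.span {f i}).IsPrime]

theorem comap_eq_span (hm : ∀ i, f i ∈ maximalIdeal A) (hf : CotIndep f hm) {R : Type u} [CommRing R]
    [Algebra A R] [Algebra.HasGoingDown A R] [IsNoetherianRing R] (P : Ideal R) [P.IsPrime] (hP : P.height ≤ 1)
    (i : Fin r) (hi : algebraMap A R (f i) ∈ P) : P.comap (algebraMap A R) = Ideal.span {f i} := by
  set Q' := P.comap (algebraMap A R)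
  haveI : Q'.IsPrime := Ideal.IsPrime.comap _
  haveI : P.LiesOver Q' := ⟨rfl⟩
  have hQ'1 : Q'.height ≤ 1 := by
    refine le_trans ?_ hP
    rw [Ideal.height_eq_height_add_of_liesOver_of_hasGoingDown Q' P]
    exact le_self_add
  have hle : Ideal.span {f i} ≤ Q' := (Ideal.span_singleton_le_iff_mem _).2 hi
  refine (hle.eq_or_lt.resolve_right fun hlt => ?_).symm
  haveI : (⊥ : Ideal A).IsPrime := Ideal.isPrime_bot
  have h1 := Ideal.height_add_one_le_of_lt_of_isPrime (bot_lt_iff_ne_bot.2 (fun h0 =>
    (hf.prime i).1 (Ideal.span_singleton_eq_bot.1 h0)) : (⊥ : Ideal A) < Ideal.span {f i})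
  have h2 := Ideal.height_add_one_le_of_lt_of_isPrime hlt
  have h3 : (1 : ℕ∞) + 1 ≤ 1 := le_trans (le_trans (add_le_add_left (le_trans le_add_self h1) 1) h2) hQ'1
  exact absurd h3 (by norm_num)

theorem height_span_le_one {R : Type u} [CommRing R] [IsNoetherianRing R] (s : R) [(Ideal.span {s}).IsPrime] :
    (Ideal.span {s}).height ≤ 1 :=
  Ideal.height_le_one_of_isPrincipal_of_mem_minimalPrimes _ _ ⟨⟨inferInstance, le_rfl⟩, fun _ hq _ => hq.2⟩

set_option maxHeartbeats 2000000 in
/-- The parameters are associated to powers of primes dominating them. -/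
theorem exists_index_of_regular (hm : ∀ i, f i ∈ maximalIdeal A) (hf : CotIndep f hm)
    {B R : Type u} [CommRing B] [IsDomain B] [UniqueFactorizationMonoid B] [IsNoetherianRing B] [Algebra A B]
    [Algebra.IsIntegral A B] [Module.Flat A B]
    [CommRing R] [IsDomain R] [IsRegularLocalRing R] [Algebra A R] [Module.Finite A R]
    (hinjR : Function.Injective (algebraMap A R))
    (ψ : B →ₐ[A] R) (hψ : Function.Injective ψ) (i : Fin r) (t : R) (ht : Prime t) (n : ℕ) (hn : n ≠ 0)
    (htn : t ^ n = algebraMap A R (f i)) :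
    ∃ (e : ℕ) (s : B) (u : Bˣ), 0 < e ∧ e ∣ n ∧ Prime s ∧ algebraMap A B (f i) = u * s ^ e ∧
      ∀ (P : Ideal B), P.IsPrime → P.comap (algebraMap A B) = Ideal.span {f i} → P = Ideal.span {s} := by
  classical
  haveI : FaithfulSMul A R := (faithfulSMul_iff_algebraMap_injective A R).2 hinjR
  haveI := UFDLib.ufd_of_isRegularLocalRing A
  haveI : IsIntegrallyClosed A := inferInstance
  haveI : Algebra.IsIntegral A R := Algebra.IsIntegral.of_finite A R
  haveI : Algebra.HasGoingDown A R := inferInstance
  haveI : (Ideal.span {t}).IsPrime := (Ideal.span_singleton_prime ht.ne_zero).2 ht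
  have htA : (Ideal.span {t}).comap (algebraMap A R) = Ideal.span {f i} :=
    comap_eq_span hm hf (Ideal.span {t}) (height_span_le_one t) i
      (by rw [← htn]; exact Ideal.pow_mem_of_mem _ (Ideal.mem_span_singleton_self t) n (Nat.pos_of_ne_zero hn))
  letI : Algebra B R := ψ.toRingHom.toAlgebra
  haveI : IsScalarTower A B R := IsScalarTower.of_algebraMap_eq fun a => (ψ.commutes a).symm
  haveI : Algebra.IsIntegral B R := Algebra.IsIntegral.tower_top A
  haveI : FaithfulSMul B R := (faithfulSMul_iff_algebraMap_injective B R).2 hψ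
  have huniq : ∀ (P : Ideal B), P.IsPrime → P.comap (algebraMap A B) = Ideal.span {f i} →
      P = (Ideal.span {t}).comap (algebraMap B R) := by
    intro P hP hPA
    obtain ⟨P', hP', hover⟩ := Ideal.exists_ideal_over_prime_of_isIntegral_of_isDomain (S := R) P
      (by rw [(RingHom.injective_iff_ker_eq_bot (algebraMap B R)).1 hψ]; exact bot_le)
    rw [← hover]
    congr 1
    have hP'A : P'.comap (algebraMap A R) = Ideal.span {f i} := by
      rw [IsScalarTower.algebraMap_eq A B R, ← Ideal.comap_comap, hover, hPA]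
    haveI := hP'
    have hle : Ideal.span {t} ≤ P' := (Ideal.span_singleton_le_iff_mem _).2 (hP'.mem_of_pow_mem n (by
      rw [htn, ← Ideal.mem_comap, hP'A]; exact Ideal.subset_span rfl))
    refine (hle.eq_or_lt.resolve_right fun hlt => ?_).symm
    exact (Ideal.IsIntegral.comap_lt_comap (R := A) hlt).ne (htA.trans hP'A.symm)
  have hf0 : algebraMap A B (f i) ≠ 0 := fun h => (hf.prime i).1 (hinjR (by
    rw [IsScalarTower.algebraMap_apply A B R, h, map_zero, map_zero]))
  have hfu : ¬ IsUnit (algebraMap A B (f i)) := fun h => by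
    have h1 := h.map (algebraMap B R)
    rw [← IsScalarTower.algebraMap_apply, ← htn] at h1
    exact ht.not_unit ((isUnit_pow_iff hn).1 h1)
  obtain ⟨s, hs, hsf⟩ := WfDvdMonoid.exists_irreducible_factor hfu hf0
  have hspan : ∀ s' : B, Irreducible s' → s' ∣ algebraMap A B (f i) →
      Ideal.span {s'} = (Ideal.span {t}).comap (algebraMap B R) := by
    intro s' hs' hdvd
    haveI : (Ideal.span {s'}).IsPrime :=
      (Ideal.span_singleton_prime hs'.ne_zero).2 (UniqueFactorizationMonoid.irreducible_iff_prime.1 hs')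
    exact huniq _ inferInstance (comap_eq_span hm hf _ (height_span_le_one s') i (Ideal.mem_span_singleton.2 hdvd))
  obtain ⟨e, a, hsa, hea⟩ := WfDvdMonoid.max_power_factor hf0 hs
  have hau : IsUnit a := by
    by_contra hau
    have ha0 : a ≠ 0 := fun h => hf0 (by rw [hea, h, mul_zero])
    obtain ⟨s', hs', hs'a⟩ := WfDvdMonoid.exists_irreducible_factor hau ha0
    refine hsa (Ideal.span_singleton_le_span_singleton.1 ?_)
    rw [hspan s hs hsf, ← hspan s' hs' (hea ▸ hs'a.mul_left _)]
    exact Ideal.span_singleton_le_span_singleton.2 hs'a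
  have he : 0 < e := Nat.pos_of_ne_zero fun h => hfu (by rw [hea, h, pow_zero, one_mul]; exact hau)
  have hψs : ψ s ∣ t ^ n := by
    rw [htn, ← ψ.commutes]; exact map_dvd ψ hsf
  obtain ⟨a', -, hassoc⟩ := (dvd_prime_pow ht n).1 hψs
  have hne : a' * e = n := by
    have h1 : Associated (t ^ n) (t ^ (a' * e)) := by
      rw [htn, ← ψ.commutes, hea, map_mul, map_pow, pow_mul]
      exact (associated_mul_unit_left _ _ (hau.map ψ)).trans (hassoc.pow_pow)
    exact le_antisymm ((pow_dvd_pow_iff ht.ne_zero ht.not_unit).1 h1.dvd') ((pow_dvd_pow_iff ht.ne_zero ht.not_unit).1 h1.dvd)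
  exact ⟨e, s, hau.unit, he, ⟨a', hne.symm.trans (mul_comm _ _)⟩, UniqueFactorizationMonoid.irreducible_iff_prime.1 hs,
    hea.trans (mul_comm _ _), fun P hP hPA => (huniq P hP hPA).trans (hspan s hs hsf).symm⟩

section Generic

variable {B Γ : Type u} [CommRing B] [IsDomain B] [Algebra A B] [Algebra.IsIntegral A B] [CommRing Γ] [Algebra A Γ]
  [Algebra B Γ] [IsScalarTower A B Γ] (F : A) [IsLocalization.Away (algebraMap A B F) Γ]
include F

theorem generic_point (q : Ideal Γ) [q.IsPrime] (hq : Ideal.comap (algebraMap A Γ) q = ⊥) :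
    Function.Injective (algebraMap B q.ResidueField) ∧
      ∀ z : q.ResidueField, ∃ x y : B, y ≠ 0 ∧ z * algebraMap B q.ResidueField y = algebraMap B q.ResidueField x := by
  have hq0 : q.comap (algebraMap B Γ) = ⊥ :=
    Ideal.eq_bot_of_comap_eq_bot (R := A) (by rw [Ideal.comap_comap, ← IsScalarTower.algebraMap_eq]; exact hq)
  have hinj : Function.Injective (algebraMap B q.ResidueField) := by
    rw [RingHom.injective_iff_ker_eq_bot, IsScalarTower.algebraMap_eq B Γ q.ResidueField, ← RingHom.comap_ker,
      Ideal.ker_algebraMap_residueField, hq0]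
  refine ⟨hinj, fun z => ?_⟩
  obtain ⟨a, b, hb, rfl⟩ := IsFractionRing.div_surjective (Γ ⧸ q) z
  obtain ⟨a, rfl⟩ := Ideal.Quotient.mk_surjective a
  obtain ⟨b, rfl⟩ := Ideal.Quotient.mk_surjective b
  have hb0 : algebraMap (Γ ⧸ q) q.ResidueField (Ideal.Quotient.mk q b) ≠ 0 := fun h =>
    nonZeroDivisors.ne_zero hb (IsFractionRing.injective (Γ ⧸ q) q.ResidueField (h.trans (map_zero _).symm))
  change algebraMap Γ q.ResidueField b ≠ 0 at hb0
  obtain ⟨⟨a', s⟩, ha⟩ := IsLocalization.surj (Submonoid.powers (algebraMap A B F)) a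
  obtain ⟨⟨b', t⟩, hb'⟩ := IsLocalization.surj (Submonoid.powers (algebraMap A B F)) b
  have ha2 := congrArg (algebraMap Γ q.ResidueField) ha
  have hb2 := congrArg (algebraMap Γ q.ResidueField) hb'
  simp only [map_mul, ← IsScalarTower.algebraMap_apply] at ha2 hb2
  have hs : algebraMap B q.ResidueField (s : B) ≠ 0 := by
    rw [IsScalarTower.algebraMap_apply B Γ q.ResidueField]
    exact ((IsLocalization.map_units Γ s).map _).ne_zero
  have ht : algebraMap B q.ResidueField (t : B) ≠ 0 := by
    rw [IsScalarTower.algebraMap_apply B Γ q.ResidueField]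
    exact ((IsLocalization.map_units Γ t).map _).ne_zero
  refine ⟨a' * t, b' * s, fun h => ?_, ?_⟩
  · have h2 : algebraMap B q.ResidueField (b' * s) = 0 := by rw [h, map_zero]
    rw [map_mul, ← hb2] at h2
    exact mul_ne_zero (mul_ne_zero hb0 ht) hs h2
  · show algebraMap Γ q.ResidueField a / algebraMap Γ q.ResidueField b * _ = _
    rw [map_mul, map_mul, ← ha2, ← hb2]
    field_simp

theorem tame_transfer [Algebra.Etale A Γ] (hinj : Function.Injective (algebraMap A B))
    (hm : ∀ i, f i ∈ maximalIdeal A) (hf : CotIndep f hm) (hFB : algebraMap A B F ≠ 0)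
    (htame : SGA1.IsTameAlong f (algebraMap A B)) : SGA1.IsTameAlong f (algebraMap A Γ) := by
  intro i q _ hq
  obtain ⟨hinjq, hfrac⟩ := generic_point (B := B) F q hq
  haveI : (⊥ : Ideal B).IsPrime := Ideal.isPrime_bot
  have hq' : Ideal.comap (algebraMap A B) (⊥ : Ideal B) = ⊥ :=
    (RingHom.injective_iff_ker_eq_bot _).1 hinj
  let τ : (⊥ : Ideal B).ResidueField →+* q.ResidueField :=
    Ideal.ResidueField.lift ⊥ (algebraMap B q.ResidueField) bot_le
      fun x hx => isUnit_iff_ne_zero.2 fun h => hx (hinjq (h.trans (map_zero _).symm))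
  have hτ : ∀ b : B, τ (algebraMap B _ b) = algebraMap B q.ResidueField b :=
    fun b => Ideal.ResidueField.lift_algebraMap _ _ _ _ b
  have hsurj : Function.Surjective τ := fun z => by
    obtain ⟨x, y, hy, hz⟩ := hfrac z
    refine ⟨algebraMap B _ x / algebraMap B _ y, ?_⟩
    rw [map_div₀, hτ, hτ, ← hz, mul_div_cancel_right₀ _ fun h => hy (hinjq (h.trans (map_zero _).symm))]
  let σ := RingEquiv.ofBijective τ ⟨τ.injective, hsurj⟩
  haveI : IsDiscreteValuationRing (Localization.AtPrime (Ideal.span {f i})) :=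
    TameAbh.dvr_localization_span A (f i) (hf.prime i).1
  let A₀ := Localization.AtPrime (Ideal.span {f i})
  let K := FractionRing A
  have hu : ∀ y : (Ideal.span {f i}).primeCompl, IsUnit (algebraMap A K y) := fun y =>
    isUnit_iff_ne_zero.2 fun h0 => y.2 (by
      rw [show (y : A) = 0 from IsFractionRing.injective A K (h0.trans (map_zero _).symm)]
      exact zero_mem _)
  letI : Algebra A₀ K := (IsLocalization.lift (S := A₀) hu).toAlgebra
  haveI : IsScalarTower A A₀ K := IsScalarTower.of_algebraMap_eq fun a => (IsLocalization.lift_eq hu a).symm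
  haveI : IsFractionRing A₀ K :=
    IsFractionRing.isFractionRing_of_isDomain_of_isLocalization (Ideal.span {f i}).primeCompl A₀ K
  obtain ⟨_, _, hfin, hsep⟩ := finite_generic (Γ := Γ) K q hq
  haveI := hfin
  haveI := hsep
  letI : Algebra K (⊥ : Ideal B).ResidueField := (σ.symm.toRingHom.comp (algebraMap K q.ResidueField)).toAlgebra
  let σ' : q.ResidueField ≃ₐ[K] (⊥ : Ideal B).ResidueField := AlgEquiv.ofRingEquiv (f := σ.symm) fun _ => rfl
  haveI : FiniteDimensional K (⊥ : Ideal B).ResidueField := σ'.toLinearEquiv.finiteDimensional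
  haveI : Algebra.IsSeparable K (⊥ : Ideal B).ResidueField := AlgEquiv.Algebra.isSeparable σ'
  have e1 : SGA1.genericResidueMap (algebraMap A Γ) (Ideal.span {f i}) q hq =
      (algebraMap K q.ResidueField).comp (algebraMap A₀ K) := by
    refine IsLocalization.ringHom_ext (Ideal.span {f i}).primeCompl (RingHom.ext fun a => ?_)
    show SGA1.genericResidueMap (algebraMap A Γ) _ q hq (algebraMap A A₀ a) =
      algebraMap K q.ResidueField (algebraMap A₀ K (algebraMap A A₀ a))
    rw [← IsScalarTower.algebraMap_apply A A₀ K, ← IsScalarTower.algebraMap_apply A K q.ResidueField]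
    exact (IsLocalization.lift_eq _ a).trans (IsScalarTower.algebraMap_apply A Γ q.ResidueField a).symm
  have e2 : SGA1.genericResidueMap (algebraMap A B) (Ideal.span {f i}) ⊥ hq' =
      (algebraMap K (⊥ : Ideal B).ResidueField).comp (algebraMap A₀ K) := by
    refine IsLocalization.ringHom_ext (Ideal.span {f i}).primeCompl (RingHom.ext fun a => σ.injective ?_)
    show σ (SGA1.genericResidueMap (algebraMap A B) _ ⊥ hq' (algebraMap A A₀ a)) =
      σ (σ.symm (algebraMap K q.ResidueField (algebraMap A₀ K (algebraMap A A₀ a))))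
    rw [RingEquiv.apply_symm_apply, ← IsScalarTower.algebraMap_apply A A₀ K,
      ← IsScalarTower.algebraMap_apply A K q.ResidueField]
    refine (congrArg σ (IsLocalization.lift_eq _ a)).trans ((hτ _).trans ?_)
    rw [IsScalarTower.algebraMap_apply B Γ q.ResidueField, ← IsScalarTower.algebraMap_apply A B Γ,
      ← IsScalarTower.algebraMap_apply A Γ q.ResidueField]
  have ht := htame i ⊥ hq'
  rw [e2] at ht
  rw [e1]
  exact (TameAbh.of_algHom A₀ K σ'.toAlgHom).1 ht

theorem isIndex_of_regular (hm : ∀ i, f i ∈ maximalIdeal A) (hf : CotIndep f hm) [UniqueFactorizationMonoid B]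
    (i : Fin r) (e : ℕ) (s : B) (hs : Prime s) (u : Bˣ) (he : 0 < e) (hfs : algebraMap A B (f i) = u * s ^ e)
    (huniq : ∀ (P : Ideal B), P.IsPrime → P.comap (algebraMap A B) = Ideal.span {f i} → P = Ideal.span {s}) :
    IsIndex f Γ i e := by
  intro q _ hq V hV
  obtain ⟨hinjq, hfrac⟩ := generic_point (B := B) F q hq
  let A₀ := Localization.AtPrime (Ideal.span {f i})
  set g := SGA1.genericResidueMap (algebraMap A Γ) (Ideal.span {f i}) q hq
  let ι := algebraMap B q.ResidueField
  have hgA : ∀ a : A, g (algebraMap A A₀ a) = ι (algebraMap A B a) := fun a =>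
    (IsLocalization.lift_eq _ a).trans (by
      show _ = algebraMap B q.ResidueField (algebraMap A B a)
      rw [IsScalarTower.algebraMap_apply B Γ q.ResidueField, ← IsScalarTower.algebraMap_apply A B Γ]; rfl)
  have hB : ∀ b : B, ι b ∈ V := fun b => by
    letI : Algebra A V := ((RingHom.codRestrict g V.toSubring hV.1).comp (algebraMap A A₀)).toAlgebra
    haveI : IsScalarTower A V q.ResidueField := IsScalarTower.of_algebraMap_eq fun a => by
      show algebraMap A q.ResidueField a = g (algebraMap A A₀ a)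
      rw [hgA, IsScalarTower.algebraMap_apply A B q.ResidueField]
    have h1 : IsIntegral A (ι b) :=
      (Algebra.IsIntegral.isIntegral (R := A) b).map (IsScalarTower.toAlgHom A B q.ResidueField)
    obtain ⟨v, hv⟩ := IsIntegrallyClosed.isIntegral_iff.1 (h1.tower_top (A := V))
    exact hv ▸ v.2
  let ιV : B →+* V := RingHom.codRestrict ι V.toSubring hB
  letI : Algebra A₀ V := (RingHom.codRestrict g V hV.1).toAlgebra
  let P := (maximalIdeal V).comap ιV
  haveI : P.IsPrime := Ideal.IsPrime.comap _
  have hPA : P.comap (algebraMap A B) = Ideal.span {f i} := by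
    ext a
    rw [← IsLocalization.AtPrime.to_map_mem_maximal_iff A₀ (Ideal.span {f i}) a]
    show ιV (algebraMap A B a) ∈ maximalIdeal V ↔ _
    have e : ιV (algebraMap A B a) = algebraMap A₀ V (algebraMap A A₀ a) := Subtype.ext (hgA a).symm
    rw [e]
    constructor
    · intro h
      by_contra hn
      exact (IsLocalRing.mem_maximalIdeal _).1 h ((notMem_maximalIdeal.1 hn).map _)
    · intro h
      exact (ValuationSubring.valuation_lt_one_iff V _).2 (hV.2 _ h)
  have hP : P = Ideal.span {s} := huniq P inferInstance hPA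
  have hunit : ∀ x : B, ¬ s ∣ x → IsUnit (ιV x) := fun x hx => notMem_maximalIdeal.1 fun h =>
    hx (Ideal.mem_span_singleton.1 (hP ▸ (h : x ∈ P)))
  have hsm : ιV s ∈ maximalIdeal V := (show s ∈ P from hP ▸ Ideal.mem_span_singleton_self s)
  have hmax : maximalIdeal V = Ideal.span {ιV s} := by
    refine le_antisymm (fun v hv => ?_) ((Ideal.span_singleton_le_iff_mem _).2 hsm)
    rcases eq_or_ne v 0 with rfl | hv0
    · exact zero_mem _
    obtain ⟨x, y, hy, hxy⟩ := hfrac (v : q.ResidueField)
    have hx : x ≠ 0 := fun h => by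
      rw [h, map_zero] at hxy
      exact hv0 (Subtype.ext ((mul_eq_zero.1 hxy).resolve_right fun h' => hy (hinjq (h'.trans (map_zero _).symm))))
    obtain ⟨a, x', hx', rfl⟩ := WfDvdMonoid.max_power_factor hx hs.irreducible
    obtain ⟨b, y', hy', rfl⟩ := WfDvdMonoid.max_power_factor hy hs.irreducible
    have h : v * ιV (s ^ b * y') = ιV (s ^ a * x') := Subtype.ext hxy
    rcases le_or_gt a b with hab | hab
    · exfalso
      obtain ⟨c, rfl⟩ := Nat.exists_eq_add_of_le hab
      have h2 : v * ιV (s ^ c * y') = ιV x' := by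
        refine mul_left_cancel₀ (a := ιV (s ^ a)) (fun h0 => pow_ne_zero a hs.ne_zero
          (hinjq ((congrArg Subtype.val h0).trans (map_zero _).symm))) ?_
        calc ιV (s ^ a) * (v * ιV (s ^ c * y')) = v * ιV (s ^ (a + c) * y') := by
              rw [pow_add, map_mul, map_mul, map_mul]; ring
          _ = ιV (s ^ a * x') := h
          _ = ιV (s ^ a) * ιV x' := map_mul _ _ _
      exact (IsLocalRing.mem_maximalIdeal _).1 hv (isUnit_of_mul_isUnit_left (h2 ▸ hunit x' hx'))
    · obtain ⟨c, rfl⟩ := Nat.exists_eq_add_of_lt hab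
      have h2 : v * ιV y' = ιV s * ιV (s ^ c * x') := by
        refine mul_left_cancel₀ (a := ιV (s ^ b)) (fun h0 => pow_ne_zero b hs.ne_zero
          (hinjq ((congrArg Subtype.val h0).trans (map_zero _).symm))) ?_
        calc ιV (s ^ b) * (v * ιV y') = v * ιV (s ^ b * y') := by rw [map_mul]; ring
          _ = ιV (s ^ (b + c + 1) * x') := h
          _ = _ := by rw [pow_succ, pow_add, map_mul, map_mul, map_mul, map_mul]; ring
      refine Ideal.mem_span_singleton.2 ((hunit y' hy').dvd_mul_right.1 ⟨_, h2⟩)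
  have hf0 : (maximalIdeal A₀).map (algebraMap A₀ V) = maximalIdeal V ^ e := by
    rw [← Localization.AtPrime.map_eq_maximalIdeal, Ideal.map_map, Ideal.map_span, Set.image_singleton, hmax,
      Ideal.span_singleton_pow, ← map_pow]
    have e1 : (algebraMap A₀ V).comp (algebraMap A A₀) (f i) = ιV (u : B) * ιV (s ^ e) := by
      rw [← map_mul, ← hfs]; exact Subtype.ext (hgA (f i))
    rw [e1, Ideal.span_singleton_mul_left_unit (u.isUnit.map ιV)]
  have hidx : Ideal.ramificationIdx' (maximalIdeal A₀) (maximalIdeal V) = e := by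
    refine Ideal.ramificationIdx'_spec hf0.le fun hle => ?_
    have h1 : ιV s ^ e ∈ Ideal.span {ιV s ^ (e + 1)} := by
      rw [← Ideal.span_singleton_pow, ← hmax]
      refine hle ?_
      rw [hf0, hmax, Ideal.span_singleton_pow]
      exact Ideal.mem_span_singleton_self _
    obtain ⟨c, hc⟩ := Ideal.mem_span_singleton.1 h1
    refine (IsLocalRing.mem_maximalIdeal _).1 hsm (IsUnit.of_mul_eq_one c (mul_left_cancel₀ (a := ιV s ^ e)
      (pow_ne_zero e fun h0 => hs.ne_zero (hinjq ((congrArg Subtype.val h0).trans (map_zero _).symm))) ?_))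
    rw [mul_one, ← mul_assoc, ← pow_succ, ← hc]
  exact dvd_of_eq hidx

end Generic

set_option maxHeartbeats 4000000 in
/-- A regular connected tame cover of a strictly local regular scheme is Kummer. -/
theorem exists_kummer_of_regular [HenselianLocalRing A] [IsSepClosed (ResidueField A)]
    (hm : ∀ i, f i ∈ maximalIdeal A) (hf : CotIndep f hm) (B : Type u) [CommRing B] [IsDomain B] [Algebra A B]
    [Module.Finite A B] [Module.Free A B]
    (hreg : ∀ (q : Ideal B) [q.IsPrime], IsRegularLocalRing (Localization.AtPrime q))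
    [Algebra.Etale (Localization.Away (∏ i, f i)) ((Localization.Away (∏ i, f i)) ⊗[A] B)]
    (htame : SGA1.IsTameAlong f (algebraMap A B)) :
    ∃ n : Fin r → ℕ, (∀ i, 1 ≤ n i) ∧ (∀ i, IsUnit ((n i : ℕ) : ResidueField A)) ∧
      Nonempty (B ≃ₐ[A] kummerAlg A f n) := by
  classical
  have hinj : Function.Injective (algebraMap A B) := by
    haveI : FaithfulSMul A B := inferInstance
    exact FaithfulSMul.algebraMap_injective A B
  haveI : Algebra.IsIntegral A B := Algebra.IsIntegral.of_finite A B
  haveI : IsLocalRing B := by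
    obtain ⟨ι, _, e, he, hloc⟩ := Hensel.exists_pi_local A B
    obtain ⟨i, hi⟩ : ∃ i, e i ≠ 0 := by
      by_contra! h
      exact one_ne_zero (α := B) (he.complete.symm.trans (Finset.sum_eq_zero fun i _ => h i))
    have h1 : e i = 1 := by
      have h2 : e i * e i = e i := he.idem i
      exact mul_left_cancel₀ hi (h2.trans (mul_one _).symm)
    haveI := hloc i
    exact (RingEquiv.trans (Ideal.quotEquivOfEq (show Ideal.span {1 - e i} = ⊥ by rw [h1, sub_self, Ideal.span_singleton_zero]))
      (RingEquiv.quotientBot B)).isLocalRing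
  haveI : IsLocalHom (algebraMap A B) := ((IsLocalRing.local_hom_TFAE _).out 4 0).1
    (eq_maximalIdeal (Ideal.isMaximal_comap_of_isIntegral_of_isMaximal (R := A) (maximalIdeal B)))
  obtain ⟨hh, hsc⟩ : EtCoh.IsStrictlyHenselianLocalRing B :=
    Groth.Agent.S14620.result (algebraMap A B) (RingHom.finite_algebraMap.2 inferInstance)
      ⟨inferInstance, inferInstance⟩
  haveI := hh
  haveI := hsc
  haveI : IsRegularLocalRing B := by
    haveI := hreg (maximalIdeal B)
    exact IsRegularLocalRing.of_ringEquiv (IsLocalization.atUnits B (maximalIdeal B).primeCompl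
      (S := Localization.AtPrime (maximalIdeal B)) fun x hx => notMem_maximalIdeal.1 hx).toRingEquiv.symm
  haveI := UFDLib.ufd_of_isRegularLocalRing B
  let F := ∏ i, f i
  have hF : F ≠ 0 := Finset.prod_ne_zero_iff.2 fun i _ => (hf.prime i).1
  have hFB : algebraMap A B F ≠ 0 := fun h => hF (hinj (h.trans (map_zero _).symm))
  obtain ⟨Γ, _, _, _, _, _, _, hunit, hint, _⟩ :
      ∃ (Γ : Type u) (_ : CommRing Γ) (_ : Algebra A Γ) (_ : Algebra B Γ) (_ : IsScalarTower A B Γ)
        (_ : IsLocalization.Away (algebraMap A B F) Γ) (_ : Algebra.Etale A Γ),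
        IsUnit (algebraMap A Γ F) ∧ (∀ γ : Γ, ∃ k : ℕ, IsIntegral A (F ^ k • γ)) ∧ Nontrivial Γ := by
    let Γ := Localization.Away (algebraMap A B F)
    let L := Localization.Away F
    letI : Algebra B (L ⊗[A] B) := Algebra.TensorProduct.rightAlgebra
    haveI : IsLocalization.Away (algebraMap A B F) (L ⊗[A] B) := inferInstance
    haveI : Algebra.Etale A L := Algebra.Etale.of_isLocalizationAway F
    haveI : Algebra.Etale A (L ⊗[A] B) := Algebra.Etale.comp A L (L ⊗[A] B)
    haveI : Algebra.Etale A Γ := Algebra.Etale.of_equiv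
      ((IsLocalization.algEquiv (Submonoid.powers (algebraMap A B F)) (L ⊗[A] B) Γ).restrictScalars A)
    refine ⟨Γ, inferInstance, inferInstance, inferInstance, inferInstance, inferInstance, inferInstance, ?_, ?_, ?_⟩
    · rw [IsScalarTower.algebraMap_apply A B Γ]
      exact IsLocalization.Away.algebraMap_isUnit _
    · intro γ
      obtain ⟨⟨b, _, k, rfl⟩, hb⟩ := IsLocalization.surj (Submonoid.powers (algebraMap A B F)) γ
      refine ⟨k, ?_⟩
      rw [Algebra.smul_def, IsScalarTower.algebraMap_apply A B Γ, map_pow, mul_comm, hb]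
      exact (Algebra.IsIntegral.isIntegral (R := A) b).map (IsScalarTower.toAlgHom A B Γ)
    · exact (IsLocalization.injective Γ (powers_le_nonZeroDivisors_of_noZeroDivisors hFB)).nontrivial
  haveI := ‹Nontrivial Γ›
  have htΓ : SGA1.IsTameAlong f (algebraMap A Γ) := tame_transfer (B := B) F hinj hm hf hFB htame
  obtain ⟨n, hn, hu, hC⟩ := exists_kummer_etale hm hf htΓ hunit hint
  -- the embedding into a Kummer algebra
  have embed : ∀ (m : Fin r → ℕ), (∀ i, 1 ≤ m i) → ExtEtale (A := A) (kummerAlg A f m) Γ →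
      ∃ h : B →ₐ[A] kummerAlg A f m, Function.Injective h := by
    intro m hm1 hCm
    obtain ⟨hreg', -, -, hloc⟩ := kummer_params f m hm hf hm1
    haveI := hreg'
    haveI := hloc
    haveI := RegLoc.isDomain (A := kummerAlg A f m)
    haveI := RegLoc.isIntegrallyClosed (A := kummerAlg A f m)
    haveI : Module.Finite A (kummerAlg A f m) := finite_kummer f m hm1
    obtain ⟨hh', hsc'⟩ : EtCoh.IsStrictlyHenselianLocalRing (kummerAlg A f m) :=
      Groth.Agent.S14620.result (algebraMap A (kummerAlg A f m)) (RingHom.finite_algebraMap.2 inferInstance)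
        ⟨inferInstance, inferInstance⟩
    haveI := hh'
    haveI := hsc'
    haveI := hCm.1
    haveI := hCm.2
    have hinjm := injective_kummer f m hm1
    obtain ⟨g⟩ := exists_hom_away (A' := kummerAlg A f m) (Γ := Γ) hinjm F hF hint
    let L := Localization.Away (algebraMap A (kummerAlg A f m) F)
    have hF' : algebraMap A (kummerAlg A f m) F ≠ 0 := fun h => hF (hinjm (h.trans (map_zero _).symm))
    let lam : L →ₐ[kummerAlg A f m] FractionRing (kummerAlg A f m) :=
      IsLocalization.liftAlgHom (M := Submonoid.powers (algebraMap A (kummerAlg A f m) F))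
        (f := Algebra.ofId (kummerAlg A f m) (FractionRing (kummerAlg A f m)))
        (by rintro ⟨_, k, rfl⟩; exact IsLocalization.map_units _ (⟨_, pow_mem (mem_nonZeroDivisors_of_ne_zero hF') k⟩ : nonZeroDivisors _))
    let k : B →ₐ[A] FractionRing (kummerAlg A f m) :=
      (lam.restrictScalars A).comp (g.comp (IsScalarTower.toAlgHom A B Γ))
    let ιR := IsScalarTower.toAlgHom A (kummerAlg A f m) (FractionRing (kummerAlg A f m))
    have hmem : ∀ b : B, k b ∈ ιR.range := fun b => by
      obtain ⟨y, hy⟩ := IsIntegrallyClosed.isIntegral_iff.1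
        (((Algebra.IsIntegral.isIntegral (R := A) b).map k).tower_top (A := kummerAlg A f m))
      exact ⟨y, hy⟩
    let h : B →ₐ[A] kummerAlg A f m :=
      (AlgEquiv.ofInjective ιR (IsFractionRing.injective (kummerAlg A f m) (FractionRing (kummerAlg A f m)))).symm.toAlgHom.comp
        (k.codRestrict _ hmem)
    exact ⟨h, injective_of_integral h hinjm⟩
  obtain ⟨ψ, hψ⟩ := embed n hn hC
  obtain ⟨hreg', ht, hti, hloc⟩ := kummer_params f n hm hf hn
  haveI := hreg'
  haveI := hloc
  haveI := RegLoc.isDomain (A := kummerAlg A f n)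
  haveI : Module.Finite A (kummerAlg A f n) := finite_kummer f n hn
  have key : ∀ i, ∃ (e : ℕ) (s : B) (u : Bˣ), 0 < e ∧ e ∣ n i ∧ Prime s ∧ algebraMap A B (f i) = u * s ^ e ∧
      ∀ (P : Ideal B), P.IsPrime → P.comap (algebraMap A B) = Ideal.span {f i} → P = Ideal.span {s} := fun i =>
    exists_index_of_regular hm hf (injective_kummer f n hn) ψ hψ i (kt f n i)
      ((Ideal.span_singleton_prime (hti.prime i).1).1 (hti.prime i).2) (n i) (by have := hn i; omega) (kt_pow f n i)
  choose e s u he hdvd hs hfs huniq using key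
  have heu : ∀ i, IsUnit ((e i : ℕ) : ResidueField A) := fun i =>
    isUnit_of_dvd_unit (map_dvd (Nat.castRingHom (ResidueField A)) (hdvd i)) (hu i)
  have heA : ∀ i, IsUnit (e i : A) := fun i => by
    by_contra h
    refine (heu i).ne_zero ?_
    rw [← map_natCast (residue A), residue_eq_zero_iff]
    exact h
  have hroot : ∀ i, ∃ w : B, w ^ e i = algebraMap A B (f i) := fun i => by
    obtain ⟨w, hw⟩ := exists_root_of_strict (e i) (by
      rw [← map_natCast (residue B), ← map_natCast (algebraMap A B)]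
      exact ((heA i).map (algebraMap A B) |>.map (residue B)).ne_zero) (u i)
    exact ⟨w * s i, by rw [mul_pow, hw, ← hfs i]⟩
  obtain ⟨hregE, -, -, -⟩ := kummer_params f e hm hf he
  haveI := hregE
  haveI := RegLoc.isDomain (A := kummerAlg A f e)
  haveI : Module.Finite A (kummerAlg A f e) := finite_kummer f e he
  haveI : Algebra.IsIntegral A (kummerAlg A f e) := Algebra.IsIntegral.of_finite _ _
  have hek : ∀ i, (e i : ResidueField (Localization.AtPrime (Ideal.span {f i}))) ≠ 0 := fun i => by
    rw [← map_natCast (residue _), ← map_natCast (algebraMap A (Localization.AtPrime (Ideal.span {f i})))]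
    exact ((heA i).map _ |>.map _).ne_zero
  have hCe : ExtEtale (A := A) (kummerAlg A f e) Γ :=
    etale_of_roots hm hf htΓ hunit hint (kummerAlg A f e) (injective_kummer f e he) e hek
      (fun i => isIndex_of_regular (B := B) F hm hf i (e i) (s i) (hs i) (u i) (he i) (hfs i) (huniq i))
      fun i => ⟨kt f e i, kt_pow f e i⟩
  obtain ⟨h, hh'⟩ := embed e he hCe
  choose w hw using hroot
  obtain ⟨φ, -⟩ := exists_hom f e B w hw
  have hψsurj := surjective_of_injective_endo (h.comp φ) (hh'.comp (injective_of_integral φ hinj))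
  refine ⟨e, he, heu, ⟨AlgEquiv.ofBijective h ⟨hh', fun y => ?_⟩⟩⟩
  obtain ⟨x, hx⟩ := hψsurj y
  exact ⟨φ x, hx⟩

end Groth.Agent.AbsAbh
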