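import Mathlib
import Groth.Agent.Hensel.Local

/-!
# Finite unramified domains over local rings that are trivial
-/

set_option autoImplicit false
set_option backward.isDefEq.respectTransparency false

universe u

open IsLocalRing

namespace Groth.Agent.AbsAbh

theorem surjective_of_residue {R D : Type u} [CommRing R] [IsLocalRing R] [CommRing D] [IsLocalRing D] [Algebra R D]
    [Module.Finite R D] [Algebra.FormallyUnramified R D] [IsLocalHom (algebraMap R D)]
    (hres : ∀ d : D, ∃ a : R, d - algebraMap R D a ∈ maximalIdeal D) : Function.Surjective (algebraMap R D) := by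
  haveI : Algebra.FiniteType R D := Module.Finite.finiteType D
  have hmap : (maximalIdeal R).map (algebraMap R D) = maximalIdeal D := Algebra.FormallyUnramified.map_maximalIdeal
  have hle : (⊤ : Submodule R D) ≤ LinearMap.range (Algebra.linearMap R D) := by
    refine Submodule.le_of_le_smul_of_le_jacobson_bot (I := maximalIdeal R) Module.Finite.fg_top
      (IsLocalRing.maximalIdeal_le_jacobson ⊥) fun d _ => ?_
    obtain ⟨a, ha⟩ := hres d
    refine Submodule.mem_sup.2 ⟨algebraMap R D a, ⟨a, rfl⟩, d - algebraMap R D a, ?_, by ring⟩
    rw [Ideal.smul_top_eq_map]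
    exact hmap.ge ha
  exact fun d => hle (Submodule.mem_top (x := d))

/-- A finite unramified domain over a strictly henselian local ring is trivial. -/
theorem surjective_of_strict {R D : Type u} [CommRing R] [HenselianLocalRing R] [IsSepClosed (ResidueField R)]
    [CommRing D] [IsDomain D] [Algebra R D] [Module.Finite R D] [Algebra.FormallyUnramified R D]
    (hinj : Function.Injective (algebraMap R D)) : Function.Surjective (algebraMap R D) := by
  haveI : Algebra.IsIntegral R D := Algebra.IsIntegral.of_finite R D
  haveI : IsLocalRing D := by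
    obtain ⟨ι, _, e, he, hloc⟩ := Hensel.exists_pi_local R D
    obtain ⟨i, hi⟩ : ∃ i, e i ≠ 0 := by
      by_contra! h
      exact one_ne_zero (α := D) (he.complete.symm.trans (Finset.sum_eq_zero fun i _ => h i))
    have h1 : e i = 1 := by
      have h2 : e i * e i = e i := he.idem i
      exact mul_left_cancel₀ hi (h2.trans (mul_one _).symm)
    haveI := hloc i
    exact (RingEquiv.trans (Ideal.quotEquivOfEq (show Ideal.span {1 - e i} = ⊥ by rw [h1, sub_self, Ideal.span_singleton_zero]))
      (RingEquiv.quotientBot D)).isLocalRing
  haveI : Algebra.FiniteType R D := Module.Finite.finiteType D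
  haveI : IsLocalHom (algebraMap R D) := ((IsLocalRing.local_hom_TFAE _).out 4 0).1
    (eq_maximalIdeal (Ideal.isMaximal_comap_of_isIntegral_of_isMaximal (R := R) (maximalIdeal D)))
  haveI : Algebra.IsSeparable (ResidueField R) (ResidueField D) := inferInstance
  refine surjective_of_residue fun d => ?_
  obtain ⟨x, hx⟩ := IsSepClosed.algebraMap_surjective (ResidueField R) (ResidueField D) (residue D d)
  obtain ⟨a, rfl⟩ := residue_surjective x
  refine ⟨a, ?_⟩
  rw [← residue_eq_zero_iff, map_sub, sub_eq_zero, ← hx]
  rfl

/-- A finite unramified algebra mapping into a radicial local extension is trivial. -/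
theorem surjective_of_radicial {R D T : Type u} [CommRing R] [IsLocalRing R] [CommRing D] [Algebra R D]
    [Module.Finite R D] [Algebra.FormallyUnramified R D] [CommRing T] [IsLocalRing T] [Algebra R T]
    [Algebra.IsIntegral R T] (j : D →ₐ[R] T) (hj : Function.Injective j) (p : ℕ) [hp : Fact p.Prime]
    (hpR : (p : R) ∈ maximalIdeal R)
    (hrad : ∀ x : T, ∃ (k : ℕ) (a : R), x ^ p ^ k - algebraMap R T a ∈ maximalIdeal T) :
    Function.Surjective (algebraMap R D) := by
  letI : Algebra D T := j.toRingHom.toAlgebra
  haveI : IsScalarTower R D T := IsScalarTower.of_algebraMap_eq fun a => (j.commutes a).symm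
  haveI : Algebra.IsIntegral D T := Algebra.IsIntegral.tower_top R
  haveI : FaithfulSMul D T := (faithfulSMul_iff_algebraMap_injective D T).2 hj
  haveI : IsLocalRing D := by
    refine IsLocalRing.of_unique_max_ideal ⟨(maximalIdeal T).comap (algebraMap D T),
      Ideal.isMaximal_comap_of_isIntegral_of_isMaximal _, fun M hM => ?_⟩
    obtain ⟨M', hM', hover⟩ := Ideal.exists_maximal_ideal_liesOver_of_isIntegral (S := T) M
    rw [hover.over, eq_maximalIdeal hM']
  have hmD : (maximalIdeal T).comap (algebraMap D T) = maximalIdeal D :=
    eq_maximalIdeal (Ideal.isMaximal_comap_of_isIntegral_of_isMaximal _)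
  haveI : Algebra.IsIntegral R D := Algebra.IsIntegral.of_finite R D
  haveI : Algebra.FiniteType R D := Module.Finite.finiteType D
  haveI : IsLocalHom (algebraMap R D) := ((IsLocalRing.local_hom_TFAE _).out 4 0).1
    (eq_maximalIdeal (Ideal.isMaximal_comap_of_isIntegral_of_isMaximal (R := R) (maximalIdeal D)))
  haveI : Algebra.IsSeparable (ResidueField R) (ResidueField D) := inferInstance
  have hp0 : (p : ResidueField R) = 0 := by
    rw [← map_natCast (residue R), residue_eq_zero_iff]; exact hpR
  haveI : CharP (ResidueField R) p := by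
    obtain ⟨c, hc⟩ := CharP.exists (ResidueField R)
    have hd : c ∣ p := (CharP.cast_eq_zero_iff _ c p).1 hp0
    rcases (Nat.dvd_prime hp.out).1 hd with h | h
    · subst h
      haveI := hc; exact absurd (CharP.cast_eq_zero (ResidueField R) 1) (by rw [Nat.cast_one]; exact one_ne_zero)
    · exact h ▸ hc
  haveI : ExpChar (ResidueField R) p := ExpChar.prime hp.out
  haveI : IsPurelyInseparable (ResidueField R) (ResidueField D) := by
    refine (isPurelyInseparable_iff_pow_mem (ResidueField R) p).2 fun x => ?_
    obtain ⟨d, rfl⟩ := residue_surjective x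
    obtain ⟨k, a, hka⟩ := hrad (algebraMap D T d)
    refine ⟨k, residue R a, ?_⟩
    show residue D (algebraMap R D a) = residue D d ^ p ^ k
    rw [← map_pow, eq_comm, ← sub_eq_zero, ← map_sub, residue_eq_zero_iff, ← hmD, Ideal.mem_comap, map_sub, map_pow,
      ← IsScalarTower.algebraMap_apply R D T]
    exact hka
  refine surjective_of_residue fun d => ?_
  obtain ⟨x, hx⟩ := (IsPurelyInseparable.surjective_algebraMap_of_isSeparable (ResidueField R) (ResidueField D))
    (residue D d)
  obtain ⟨a, rfl⟩ := residue_surjective x
  refine ⟨a, ?_⟩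
  rw [← residue_eq_zero_iff, map_sub, sub_eq_zero, ← hx]
  rfl

end Groth.Agent.AbsAbh
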